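import Cfsg.Agent.Ore.Ty

/-! Thompson's block lemma: for a cyclic matrix `A` there is `D ~ d ⊕ C(h)` with `A D ~ C(f)`
(`good_cyc`); the same for a scalar plus a rank one matrix in dimension 3 (`good_refl`). -/

set_option autoImplicit false

namespace Cfsg.Agent.Ore

open Module Polynomial Matrix Cfsg.Agent.Classical

variable {F : Type*} [Field F] {ι κ : Type*} [Fintype ι] [DecidableEq ι] [Fintype κ] [DecidableEq κ]

theorem flag {n : ℕ} (U : Submodule F (Fin n → F))
    (h : ∀ r : Fin n, ∃ v ∈ U, v r ≠ 0 ∧ ∀ i, r < i → v i = 0) : U = ⊤ := by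
  have key : ∀ r ≤ n, ∀ w : Fin n → F, (∀ i : Fin n, r ≤ i → w i = 0) → w ∈ U := by
    intro r
    induction r with
    | zero => intro _ w hw; rw [show w = 0 from funext fun i => hw i (Nat.zero_le _)]; exact U.zero_mem
    | succ r ih =>
      intro hr w hw
      obtain ⟨v, hv, h1, h2⟩ := h ⟨r, hr⟩
      have := ih (by omega) (w - (w ⟨r, hr⟩ / v ⟨r, hr⟩) • v) fun i hi => by
        rcases hi.eq_or_lt with rfl | hi
        · simp only [Pi.sub_apply, Pi.smul_apply, smul_eq_mul, Fin.eta] at h1 ⊢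
          field_simp; ring
        · simp [hw i hi, h2 i hi]
      simpa using U.add_mem this (U.smul_mem (w ⟨r, hr⟩ / v ⟨r, hr⟩) hv)
  exact eq_top_iff.2 fun w _ => key n le_rfl w fun i hi => absurd i.2 (by omega)

variable (F) in
/-- The shift `e_j ↦ e_(j-1)`. -/
def sh (n : ℕ) : Matrix (Fin n) (Fin n) F := of fun i j => if (j : ℕ) = i + 1 then 1 else 0

theorem sh_mulVec {n : ℕ} (v : Fin n → F) (i : Fin n) :
    (sh F n *ᵥ v) i = if h : (i : ℕ) + 1 < n then v ⟨i + 1, h⟩ else 0 := by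
  simp only [mulVec, dotProduct, sh, of_apply, ite_mul, one_mul, zero_mul]
  split_ifs with h
  · rw [Finset.sum_eq_single ⟨i + 1, h⟩] <;> simp +contextual [Fin.ext_iff]
  · exact Finset.sum_eq_zero fun j _ => if_neg (by omega)

theorem shT_mulVec {n : ℕ} (v : Fin n → F) (i : Fin n) :
    ((sh F n)ᵀ *ᵥ v) i = if 0 < (i : ℕ) then v ⟨i - 1, by omega⟩ else 0 := by
  simp only [mulVec, dotProduct, sh, of_apply, transpose_apply, ite_mul, one_mul, zero_mul]
  split_ifs with h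
  · rw [Finset.sum_eq_single ⟨i - 1, by omega⟩]
    · rw [if_pos (by simp; omega)]
    · intro j _ hj
      rw [if_neg]
      intro h'
      exact hj (Fin.ext (by simp; omega))
    · simp
  · exact Finset.sum_eq_zero fun j _ => if_neg (by omega)

theorem cy_of_shift {m : ℕ} {M : Matrix (Fin (m + 1)) (Fin (m + 1)) F} (t : F)
    (h1 : ∀ v, v (Fin.last m) = 0 → M *ᵥ v = t • v + sh F _ *ᵥ v)
    (h2 : ∀ r : Fin (m + 1), (r : ℕ) + 1 = m → M r (Fin.last m) ≠ 0) :
    Cy M (Pi.single (Fin.last m) 1) := by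
  intro U hb hU
  have key : ∀ j, ∀ r : Fin (m + 1), (r : ℕ) + 1 + j = m → ∃ v ∈ U, v r ≠ 0 ∧ ∀ i, r < i → v i = 0 := by
    intro j
    induction j with
    | zero =>
      intro r hr
      refine ⟨_, U.sub_mem (hU _ hb) (U.smul_mem (M (Fin.last m) (Fin.last m)) hb), ?_, fun i hi => ?_⟩
      · have : r ≠ Fin.last m := fun h => by simp [h] at hr
        simpa [this] using h2 r hr
      · obtain rfl : i = Fin.last m := Fin.ext (by have := i.2; rw [Fin.lt_def] at hi; simp; omega)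
        simp
    | succ j ih =>
      intro r hr
      obtain ⟨v, hv, e1, e2⟩ := ih ⟨r + 1, by omega⟩ (by simp; omega)
      have := U.sub_mem (hU v hv) (U.smul_mem t hv)
      rw [h1 v (e2 _ (by rw [Fin.lt_def]; simp; omega)), add_sub_cancel_left] at this
      refine ⟨_, this, ?_, fun i hi => ?_⟩
      · rw [sh_mulVec, dif_pos (by omega)]; exact e1
      · rw [sh_mulVec]
        split_ifs
        · exact e2 _ (by rw [Fin.lt_def] at hi ⊢; simp; omega)
        · rfl
  refine flag U fun r => ?_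
  by_cases hr : r = Fin.last m
  · subst hr
    exact ⟨_, hb, by simp, fun i hi => absurd hi (not_lt.2 (Fin.le_last i))⟩
  · have : (r : ℕ) < m := Fin.val_lt_last hr
    exact key (m - 1 - r) r (by omega)

theorem cy_sh (m : ℕ) : Cy (sh F (m + 1)) (Pi.single (Fin.last m) 1) :=
  cy_of_shift 0 (fun v _ => by simp) fun r hr => by simp [sh, hr]

theorem cy_sh_diag (m : ℕ) (a : Fin (m + 1) → F) :
    Cy (sh F (m + 1) + diagonal a) (Pi.single (Fin.last m) 1) := by
  intro U hb hU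
  have key : ∀ j, ∀ r : Fin (m + 1), (r : ℕ) + j = m → Pi.single r 1 ∈ U := by
    intro j
    induction j with
    | zero => intro r hr; rwa [show r = Fin.last m from Fin.ext hr]
    | succ j ih =>
      intro r hr
      have h1 := ih ⟨r + 1, by omega⟩ (by simp; omega)
      convert U.sub_mem (hU _ h1) (U.smul_mem (a ⟨r + 1, by omega⟩) h1)
      ext i
      rw [add_mulVec, diagonal_mulVec_single, Pi.sub_apply, Pi.add_apply, sh_mulVec]
      simp only [Pi.single_apply, Fin.ext_iff, Pi.smul_apply, smul_eq_mul, mul_one, mul_ite, mul_zero,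
        add_sub_cancel_right]
      split_ifs <;> first | rfl | omega
  exact flag U fun r => ⟨_, key (m - r) r (by omega), by simp, fun i hi => by simp [hi.ne']⟩

/-- A row vector as a matrix. -/
def rw1 (r : ι → F) : Matrix Unit ι F := of fun _ j => r j

/-- A scalar as a `1 × 1` matrix. -/
def s1 (d : F) : Matrix Unit Unit F := of fun _ _ => d

theorem cy_ext {M : Matrix ι ι F} {b z r : ι → F} (h : Cy M b) (hz : M *ᵥ z = 0) (hr : r ⬝ᵥ z ≠ 0) :
    Cy (fromBlocks 0 (rw1 r) 0 M) (Sum.elim 0 b) := by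
  intro U hb hU
  have e : ∀ v : Unit ⊕ ι → F, fromBlocks 0 (rw1 r) 0 M *ᵥ v =
      Sum.elim (fun _ => r ⬝ᵥ (v ∘ Sum.inr)) (M *ᵥ (v ∘ Sum.inr)) := fun v => by
    rw [fromBlocks_mulVec]; simp; rfl
  have h1 := h (U.map (LinearMap.funLeft F F Sum.inr)) ⟨_, hb, rfl⟩ (by
    rintro _ ⟨v, hv, rfl⟩
    exact ⟨_, hU v hv, by rw [e]; rfl⟩)
  have h2 : ∀ w : ι → F, ∃ v ∈ U, v ∘ Sum.inr = w := fun w => by
    have : w ∈ U.map (LinearMap.funLeft F F Sum.inr) := h1 ▸ Submodule.mem_top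
    exact this
  obtain ⟨v, hv, rfl⟩ := h2 z
  have h3 := hU v hv
  rw [e, hz] at h3
  refine eq_top_iff.2 fun w _ => ?_
  obtain ⟨u, hu, hw⟩ := h2 (w ∘ Sum.inr)
  convert U.add_mem hu (U.smul_mem ((w (.inl ()) - u (.inl ())) / (r ⬝ᵥ v ∘ Sum.inr)) h3)
  ext (i | i)
  · simp; field_simp; ring
  · simpa using (congrFun hw i).symm

theorem exists_T [Finite F] {m : ℕ} {h : F[X]} (hm : h.Monic) (hd : h.natDegree = m + 1) :
    ∃ T : Matrix (Fin (m + 1)) (Fin (m + 1)) F, ty T = gdeg h ∧ T.det = dt h ∧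
      Cy (sh F _ * T) (Pi.single (Fin.last m) 1) := by
  let a : Fin (m + 1) → F := fun i => if i = 0 then -h.nextCoeff - m else 1
  have hc := cy_sh_diag m a
  obtain ⟨k, hk⟩ := hc.place hm (by simp [hd])
  have hc' := hc.feedback k
  have hch := hc'.charpoly hm (by simp [hd]) hk
  set T := sh F (m + 1) + diagonal a + vecMulVec (Pi.single (Fin.last m) 1) k with hT
  refine ⟨Tᵀ, by rw [ty_transpose, hc'.ty hm (by simp [hd]) hk], by rw [det_transpose, ← dt_charpoly, hch],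
    cy_of_shift 1 (fun v hv => ?_) fun r hr => ?_⟩
  · rw [← mulVec_mulVec, hT, transpose_add, transpose_add, transpose_vecMulVec, add_mulVec, add_mulVec,
      vecMulVec_mulVec, single_one_dotProduct, hv, MulOpposite.op_zero, zero_smul, add_zero, mulVec_add,
      diagonal_transpose]
    ext i
    simp only [Pi.add_apply, sh_mulVec, shT_mulVec, one_smul, mulVec_diagonal]
    split_ifs with h1 h2
    · have : (⟨(i : ℕ) + 1, h1⟩ : Fin (m + 1)) ≠ 0 := fun h => absurd (congrArg Fin.val h) (by simp)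
      simp only [a, if_neg this, one_mul, Nat.add_sub_cancel, Fin.eta]
    · simp at h2
    · rw [show i = Fin.last m from Fin.ext (by have := i.2; simp; omega), hv]
  · have htr := trace_eq_neg_charpoly_nextCoeff T
    rw [hch, hT, trace_add, trace_add, trace_diagonal, trace_vecMulVec, single_one_dotProduct,
      Fin.sum_univ_succ] at htr
    have h0 : (sh F (m + 1)).trace = 0 := Finset.sum_eq_zero fun i _ => by simp [sh]
    simp [a, h0] at htr
    have : (sh F (m + 1) * Tᵀ) r (Fin.last m) = (sh F (m + 1) *ᵥ (Tᵀ *ᵥ Pi.single (Fin.last m) 1)) r := by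
      rw [mulVec_mulVec]; simp
    rw [this, sh_mulVec, dif_pos (by omega), show (⟨r + 1, by omega⟩ : Fin (m + 1)) = Fin.last m from
      Fin.ext hr]
    have hl : Fin.last m ≠ 0 := fun h => by have := congrArg Fin.val h; simp at this; omega
    simp [hT, sh, a, hl, vecMulVec_apply, htr]

/-- There are matrices `A`, `D` of types `τ`, `σ` with `A D` of type `σ'`. -/
def Rel (τ : F[X] → ℕ) (c : F) (σ σ' : F[X] → ℕ) (δ : F) : Prop :=
  ∃ (ι : Type) (_ : Fintype ι) (_ : DecidableEq ι) (A D : Matrix ι ι F),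
    ty A = τ ∧ A.det = c ∧ ty D = σ ∧ ty (A * D) = σ' ∧ D.det = δ

theorem Rel.intro {ι : Type} [Fintype ι] [DecidableEq ι] (A D : Matrix ι ι F) {τ σ σ' : F[X] → ℕ}
    {c δ : F} (h1 : ty A = τ) (h2 : A.det = c) (h3 : ty D = σ) (h4 : ty (A * D) = σ') (h5 : D.det = δ) :
    Rel τ c σ σ' δ := ⟨ι, _, _, A, D, h1, h2, h3, h4, h5⟩

/-- The conclusion of the block lemma. -/
def Good (τ : F[X] → ℕ) (c : F) (n : ℕ) : Prop :=
  ∀ (d : F) (h f : F[X]), h.Monic → f.Monic → h.natDegree + 1 = n → f.natDegree = n → d ≠ 0 →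
    dt h ≠ 0 → h.eval d ≠ 0 → dt f = c * d * dt h →
      Rel τ c (gdeg (X - C d) + gdeg h) (gdeg f) (d * dt h)

theorem coprime_of_eval {h : F[X]} {d : F} (hd : h.eval d ≠ 0) : IsCoprime (X - C d) h :=
  (irreducible_X_sub_C d).coprime_iff_not_dvd.2 fun h => hd (dvd_iff_isRoot.1 h)

theorem ty_s1 [Finite F] (d : F) : ty (s1 d) = gdeg (X - C d) := ty_one _

theorem ty_s1_tri [Finite F] (d : F) (Y : Matrix Unit ι F) {T : Matrix ι ι F} {h : F[X]}
    (hT : aeval T h = 0) (hd : h.eval d ≠ 0) : ty (fromBlocks (s1 d) Y 0 T) = gdeg (X - C d) + ty T := by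
  rw [ty_tri Y (p := h) (.inl ⟨isUnit_aeval_of_coprime (aeval_of_ty (X_sub_C_ne_zero d) (ty_s1 d))
    (coprime_of_eval hd), hT⟩), ty_s1]

theorem good_cyc [Finite F] {a : F[X]} (ha : a.Monic) (h2 : 2 ≤ a.natDegree) (h0 : dt a ≠ 0) :
    Good (gdeg a) (dt a) a.natDegree := by
  intro d h f hh hf e1 e2 hd hdh hhd hdt
  obtain ⟨m, hm⟩ : ∃ m, h.natDegree = m + 1 := ⟨h.natDegree - 1, by omega⟩
  obtain ⟨T, hT1, hT2, hT3⟩ := exists_T hh hm
  let S : Matrix (Unit ⊕ Fin (m + 1)) (Unit ⊕ Fin (m + 1)) F :=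
    fromBlocks 0 (rw1 (Pi.single 0 1)) 0 (sh F _)
  let b : Unit ⊕ Fin (m + 1) → F := Sum.elim 0 (Pi.single (Fin.last m) 1)
  have hs0 : sh F (m + 1) *ᵥ Pi.single 0 1 = 0 := by
    ext i; simp [sh]
  have hS : Cy S b := cy_ext (z := Pi.single 0 1) (cy_sh m) hs0 (by simp)
  have hcard : Fintype.card (Unit ⊕ Fin (m + 1)) = a.natDegree := by simp; omega
  obtain ⟨α, hα⟩ := hS.place ha hcard.symm
  have hA := hS.feedback α
  set A := S + vecMulVec b α with hAd
  have hAdet : A.det = dt a := by rw [← dt_charpoly, hA.charpoly ha hcard.symm hα]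
  have hSe : S *ᵥ Pi.single (.inl ()) 1 = 0 := by
    ext (i | i) <;> simp [S]
  have hα0 : α (.inl ()) ≠ 0 := fun h => h0 (by
    rw [← hAdet, ← exists_mulVec_eq_zero_iff]
    refine ⟨Pi.single (.inl ()) 1, by simp, ?_⟩
    rw [hAd, add_mulVec, hSe, vecMulVec_mulVec]; simp [h])
  have hTu : IsUnit T.det := by rw [hT2]; exact hdh.isUnit
  let D0 : Matrix (Unit ⊕ Fin (m + 1)) (Unit ⊕ Fin (m + 1)) F := fromBlocks 0 0 0 T
  have hN : S * D0 = fromBlocks 0 (rw1 (Pi.single 0 1 ᵥ* T)) 0 (sh F _ * T) := by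
    simp only [S, D0, fromBlocks_multiply, Matrix.mul_zero, Matrix.zero_mul, add_zero, zero_add]
    rfl
  have hNc : Cy (S * D0) b := by
    rw [hN]
    refine cy_ext (z := T⁻¹ *ᵥ Pi.single 0 1) hT3 ?_ ?_
    · rw [mulVec_mulVec, mul_nonsing_inv_cancel_right _ _ hTu, hs0]
    · rw [← dotProduct_mulVec, mulVec_mulVec, mul_nonsing_inv _ hTu]; simp
  obtain ⟨k, hk⟩ := hNc.place hf (by rw [hcard, e2])
  have hX := hNc.feedback k
  let y := (α (.inl ()))⁻¹ • (k - α ᵥ* D0)
  let D := D0 + vecMulVec (Pi.single (.inl ()) 1) y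
  have hAD : A * D = S * D0 + vecMulVec b k := by
    rw [hAd, add_mul, mul_add, mul_add, mul_vecMulVec S, hSe, vecMulVec_mul_vecMulVec, vecMulVec_mul,
      zero_vecMulVec, add_zero, dotProduct_single, mul_one, smul_smul, mul_inv_cancel₀ hα0, one_smul,
      ← vecMulVec_add, add_sub_cancel]
  have hD : D = fromBlocks (s1 (y (.inl ()))) (rw1 (y ∘ Sum.inr)) 0 T := by
    ext (i | i) (j | j) <;> simp [D, D0, vecMulVec_apply, s1, rw1]
  have hDdet : D.det = y (.inl ()) * dt h := by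
    rw [hD, det_fromBlocks_zero₂₁, hT2, det_unique]; rfl
  have hXdet : (A * D).det = dt f := by
    rw [← dt_charpoly, hAD, hX.charpoly hf (by rw [hcard, e2]) hk]
  have hy : y (.inl ()) = d := by
    rw [det_mul, hAdet, hDdet, hdt, mul_assoc] at hXdet
    exact mul_right_cancel₀ hdh (mul_left_cancel₀ h0 hXdet)
  refine ⟨_, _, _, A, D, hA.ty ha hcard.symm hα, hAdet, ?_, ?_, by rw [hDdet, hy]⟩
  · rw [hD, hy, ty_s1_tri _ _ (aeval_of_ty hh.ne_zero hT1) hhd, hT1]
  · rw [hAD, hX.ty hf (by rw [hcard, e2]) hk]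

end Cfsg.Agent.Ore
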