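import Cfsg.Agent.Elu.Lin

/-! Cyclic vectors of matrices (`Cy`), pole placement (`Cy.place`), similarity types (`ty`). -/

set_option autoImplicit false

namespace Cfsg.Agent.Ore

open Module Polynomial Matrix Cfsg.Agent.Classical

variable {F : Type*} [Field F] {ι κ : Type*} [Fintype ι] [DecidableEq ι] [Fintype κ] [DecidableEq κ]

/-- `b` is a cyclic vector of `N`. -/
def Cy (N : Matrix ι ι F) (b : ι → F) : Prop :=
  ∀ U : Submodule F (ι → F), b ∈ U → (∀ v ∈ U, N *ᵥ v ∈ U) → U = ⊤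

/-- `g ↦ g(N) b`. -/
noncomputable def ev (N : Matrix ι ι F) (b : ι → F) : F[X] →ₗ[F] (ι → F) where
  toFun g := aeval N g *ᵥ b
  map_add' g h := by rw [map_add, add_mulVec]
  map_smul' c g := by rw [map_smul, smul_mulVec]; rfl

theorem ev_apply (N : Matrix ι ι F) (b : ι → F) (g : F[X]) : ev N b g = aeval N g *ᵥ b := rfl

theorem Cy.surj {N : Matrix ι ι F} {b : ι → F} (h : Cy N b) (w : ι → F) :
    ∃ g : F[X], aeval N g *ᵥ b = w := by
  have := h (LinearMap.range (ev N b)) ⟨1, by simp [ev_apply]⟩ (by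
    rintro _ ⟨g, rfl⟩
    exact ⟨X * g, by simp [ev_apply]⟩)
  exact LinearMap.range_eq_top.1 this w

theorem Cy.exists_poly {N : Matrix ι ι F} {b : ι → F} (h : Cy N b) (w : ι → F) :
    ∃ g : F[X], g.degree < Fintype.card ι ∧ aeval N g *ᵥ b = w := by
  obtain ⟨g, rfl⟩ := h.surj w
  refine ⟨g %ₘ N.charpoly, ?_, ?_⟩
  · have := degree_modByMonic_lt g N.charpoly_monic
    rwa [charpoly_degree_eq_dim] at this
  · rw [aeval_modByMonic_eq_self_of_root N.aeval_self_charpoly]

theorem Cy.bij {N : Matrix ι ι F} {b : ι → F} (h : Cy N b) :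
    Function.Bijective ((ev N b).domRestrict (degreeLT F (Fintype.card ι))) := by
  have hs : Function.Surjective ((ev N b).domRestrict (degreeLT F (Fintype.card ι))) := fun w => by
    obtain ⟨g, hg, rfl⟩ := h.exists_poly w
    exact ⟨⟨g, mem_degreeLT.2 hg⟩, rfl⟩
  have : FiniteDimensional F (degreeLT F (Fintype.card ι)) :=
    (degreeLTEquiv F _).symm.finiteDimensional
  refine ⟨(LinearMap.injective_iff_surjective_of_finrank_eq_finrank ?_).2 hs, hs⟩
  rw [(degreeLTEquiv F _).finrank_eq]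
  simp

theorem Cy.eq_zero {N : Matrix ι ι F} {b : ι → F} (h : Cy N b) {g : F[X]}
    (hg : g.degree < Fintype.card ι) (h0 : aeval N g *ᵥ b = 0) : g = 0 := by
  have := h.bij.1 (a₁ := ⟨g, mem_degreeLT.2 hg⟩) (a₂ := 0) (by rw [map_zero]; exact h0)
  exact congrArg Subtype.val this

theorem Cy.aeval_eq_zero {N : Matrix ι ι F} {b : ι → F} (h : Cy N b) {g : F[X]}
    (h0 : aeval N g *ᵥ b = 0) : aeval N g = 0 := by
  refine ext_of_mulVec_single fun i => ?_
  obtain ⟨p, hp⟩ := h.surj (Pi.single i 1)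
  rw [← hp, mulVec_mulVec, ← map_mul, mul_comm, map_mul, ← mulVec_mulVec, h0]
  simp

theorem Cy.feedback {N : Matrix ι ι F} {b : ι → F} (h : Cy N b) (k : ι → F) :
    Cy (N + vecMulVec b k) b := fun U hb hU => h U hb fun v hv => by
  have := U.sub_mem (hU v hv) (U.smul_mem (k ⬝ᵥ v) hb)
  rwa [add_mulVec, vecMulVec_mulVec, op_smul_eq_smul, add_sub_cancel_right] at this

theorem Cy.smul {N : Matrix ι ι F} {b : ι → F} (h : Cy N b) {a : F} (ha : a ≠ 0) :
    Cy (a • N) b := fun U hb hU => h U hb fun v hv => by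
  have := U.smul_mem a⁻¹ (hU v hv)
  rwa [smul_mulVec, smul_smul, inv_mul_cancel₀ ha, one_smul] at this

theorem Cy.exists_psi {N : Matrix ι ι F} {b : ι → F} (h : Cy N b) (r : ℕ) :
    ∃ ψ : ι → F, ∀ g : F[X], g.degree < Fintype.card ι → ψ ⬝ᵥ (aeval N g *ᵥ b) = g.coeff r := by
  let e := LinearEquiv.ofBijective _ h.bij
  let φ : (ι → F) →ₗ[F] F := (lcoeff F r) ∘ₗ (degreeLT F (Fintype.card ι)).subtype ∘ₗ e.symm.toLinearMap
  refine ⟨fun i => φ (Pi.single i 1), fun g hg => ?_⟩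
  have h1 : ∀ w : ι → F, (fun i => φ (Pi.single i 1)) ⬝ᵥ w = φ w := fun w => by
    conv_rhs => rw [← Finset.univ_sum_single w]
    rw [map_sum, dotProduct]
    refine Finset.sum_congr rfl fun i _ => ?_
    rw [mul_comm, ← smul_eq_mul, ← map_smul, ← Pi.single_smul, smul_eq_mul, mul_one]
  rw [h1]
  have : aeval N g *ᵥ b = e ⟨g, mem_degreeLT.2 hg⟩ := rfl
  rw [this]
  simp [φ]

/-- Pole placement (Ackermann's formula). -/
theorem Cy.place {N : Matrix ι ι F} {b : ι → F} (h : Cy N b) {f : F[X]} (hf : f.Monic)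
    (hd : f.natDegree = Fintype.card ι) : ∃ k, aeval (N + vecMulVec b k) f = 0 := by
  rcases Nat.eq_zero_or_pos (Fintype.card ι) with h0 | hn
  · have : IsEmpty ι := Fintype.card_eq_zero_iff.1 h0
    exact ⟨0, Subsingleton.elim _ _⟩
  obtain ⟨n, hn⟩ : ∃ n, Fintype.card ι = n + 1 := ⟨_, (Nat.succ_pred_eq_of_pos hn).symm⟩
  obtain ⟨ψ, hψ⟩ := h.exists_psi n
  have hψ' : ∀ j ≤ n, (ψ ᵥ* N ^ j) ⬝ᵥ b = if j = n then 1 else 0 := fun j hj => by
    have := hψ (X ^ j) (by rw [degree_X_pow, hn]; exact_mod_cast Nat.lt_succ_of_le hj)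
    rw [map_pow, aeval_X, coeff_X_pow, dotProduct_mulVec] at this
    rw [this]
    simp only [eq_comm]
  refine ⟨-(ψ ᵥ* aeval N f), ?_⟩
  set k := -(ψ ᵥ* aeval N f) with hk
  set M := N + vecMulVec b k with hM
  have h1 : ∀ j ≤ n, ψ ᵥ* M ^ j = ψ ᵥ* N ^ j := fun j => by
    induction j with
    | zero => simp
    | succ j ih =>
      intro hj
      rw [pow_succ, ← vecMul_vecMul, ih (by omega), hM, vecMul_add, vecMul_vecMulVec, hψ' j (by omega),
        if_neg (by omega), zero_smul, add_zero, vecMul_vecMul, ← pow_succ]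
  have h2 : ψ ᵥ* M ^ (n + 1) = ψ ᵥ* N ^ (n + 1) + k := by
    rw [pow_succ, ← vecMul_vecMul, h1 n le_rfl, hM, vecMul_add, vecMul_vecMulVec, hψ' n le_rfl,
      if_pos rfl, one_smul, vecMul_vecMul, ← pow_succ]
  have hf1 : f.coeff (n + 1) = 1 := by rw [← hn, ← hd]; exact hf
  have h3 : ψ ᵥ* aeval M f = 0 := by
    have e1 : ∀ A : Matrix ι ι F, ψ ᵥ* aeval A f =
        ∑ i ∈ Finset.range (n + 1), f.coeff i • (ψ ᵥ* A ^ i) + ψ ᵥ* A ^ (n + 1) := fun A => by
      rw [aeval_eq_sum_range, hd, hn, Finset.sum_range_succ, hf1, one_smul, vecMul_add, vecMul_sum]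
      simp only [vecMul_smul]
    rw [e1 M, h2, Finset.sum_congr rfl fun i hi => by
      rw [h1 i (Nat.lt_succ_iff.1 (Finset.mem_range.1 hi))], ← add_assoc, ← e1 N, hk, add_neg_cancel]
  have h4 : ∀ g : F[X], g.degree < Fintype.card ι → ψ ⬝ᵥ (aeval M g *ᵥ b) = g.coeff n := by
    intro g hg
    rw [← hψ g hg, dotProduct_mulVec, dotProduct_mulVec]
    congr 1
    have hg' : g.natDegree < n + 1 := by
      by_cases h0 : g = 0
      · simp [h0]
      · rw [hn] at hg; exact (natDegree_lt_iff_degree_lt h0).2 hg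
    rw [aeval_eq_sum_range' hg', aeval_eq_sum_range' hg', vecMul_sum, vecMul_sum]
    refine Finset.sum_congr rfl fun i hi => ?_
    rw [vecMul_smul, vecMul_smul, h1 i (Nat.lt_succ_iff.1 (Finset.mem_range.1 hi))]
  have hc : Cy M b := h.feedback k
  apply hc.aeval_eq_zero
  obtain ⟨g, hg, hw⟩ := hc.exists_poly (aeval M f *ᵥ b)
  by_cases h0 : g = 0
  · rw [← hw, h0]; simp
  exfalso
  have hg' : g.natDegree < n + 1 := by rw [hn] at hg; exact (natDegree_lt_iff_degree_lt h0).2 hg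
  have h5 := h4 (X ^ (n - g.natDegree) * g) (by
    rw [hn]
    refine (natDegree_lt_iff_degree_lt (mul_ne_zero (pow_ne_zero _ X_ne_zero) h0)).1 ?_
    rw [natDegree_mul (pow_ne_zero _ X_ne_zero) h0, natDegree_X_pow]; omega)
  rw [map_mul, ← mulVec_mulVec, hw, mulVec_mulVec, ← map_mul, mul_comm (X ^ _) f, map_mul,
    dotProduct_mulVec, ← vecMul_vecMul, h3, zero_vecMul, zero_dotProduct, coeff_X_pow_mul',
    if_pos (by omega), show n - (n - g.natDegree) = g.natDegree by omega] at h5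
  exact h0 (leadingCoeff_eq_zero.1 h5.symm)

theorem Cy.charpoly {N : Matrix ι ι F} {b : ι → F} (h : Cy N b) {f : F[X]} (hf : f.Monic)
    (hd : f.natDegree = Fintype.card ι) (h0 : aeval N f = 0) : N.charpoly = f := by
  by_contra hne
  refine hne (sub_eq_zero.1 (h.eq_zero ?_ ?_))
  · have := degree_sub_lt_left (p := N.charpoly) (q := f) (by
      rw [charpoly_degree_eq_dim, degree_eq_natDegree hf.ne_zero, hd]) N.charpoly_monic.ne_zero
      (by rw [N.charpoly_monic.leadingCoeff, hf.leadingCoeff])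
    rwa [charpoly_degree_eq_dim] at this
  · rw [map_sub, h0, N.aeval_self_charpoly]; simp

/-- The determinant belonging to a characteristic polynomial. -/
noncomputable def dt (f : F[X]) : F := (-1) ^ f.natDegree * f.coeff 0

theorem dt_charpoly (N : Matrix ι ι F) : dt N.charpoly = N.det := by
  rw [dt, det_eq_sign_charpoly_coeff, charpoly_natDegree_eq_dim]

theorem dt_mul {f g : F[X]} (hf : f ≠ 0) (hg : g ≠ 0) : dt (f * g) = dt f * dt g := by
  rw [dt, dt, dt, natDegree_mul hf hg, mul_coeff_zero, pow_add]; ring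

theorem dt_X_sub_C (a : F) : dt (X - C a) = a := by
  rw [dt, natDegree_X_sub_C]; simp

theorem dt_one : dt (1 : F[X]) = 1 := by simp [dt]

/-- The similarity type of a matrix. -/
noncomputable def ty (A : Matrix ι ι F) : F[X] → ℕ := kd (toLin' A)

theorem Cy.ty [Finite F] {N : Matrix ι ι F} {b : ι → F} (h : Cy N b) {f : F[X]} (hf : f.Monic)
    (hd : f.natDegree = Fintype.card ι) (h0 : aeval N f = 0) : ty N = gdeg f := by
  let φ : F[X] →ₗ[F[X]] AEval' (toLin' N) :=
    LinearMap.toSpanSingleton F[X] _ (AEval'.of (toLin' N) b)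
  have hφ : ∀ g, φ g = AEval'.of (toLin' N) (aeval N g *ᵥ b) := fun g => by
    simp only [φ, LinearMap.toSpanSingleton_apply]
    rw [← AEval.of_aeval_smul, aeval_toLin']
    rfl
  have hs : Function.Surjective φ := fun w => by
    obtain ⟨g, hg⟩ := h.surj ((AEval'.of (toLin' N)).symm w)
    exact ⟨g, by rw [hφ, hg]; simp⟩
  have hk : (F[X] ∙ f) = LinearMap.ker φ := by
    ext g
    rw [LinearMap.mem_ker, hφ, LinearEquiv.map_eq_zero_iff, Submodule.mem_span_singleton]
    constructor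
    · rintro ⟨a, rfl⟩
      rw [smul_eq_mul, map_mul, h0]; simp
    · intro hg
      have : g %ₘ f = 0 := h.eq_zero (by
        have := degree_modByMonic_lt g hf
        rwa [degree_eq_natDegree hf.ne_zero, hd] at this) (by
        rwa [aeval_modByMonic_eq_self_of_root h0])
      obtain ⟨a, rfl⟩ := (modByMonic_eq_zero_iff_dvd hf).1 this
      exact ⟨a, mul_comm _ _⟩
  let e := (Submodule.quotEquivOfEq _ _ hk).trans (φ.quotKerEquivOfSurjective hs)
  funext p
  have : Finite (ι → F) := inferInstance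
  have h1 := card_torsionBy_congr e p
  rw [card_torsionBy_quot hf.ne_zero, card_torsionBy_aeval] at h1
  exact (Nat.pow_right_injective Finite.one_lt_card h1).symm

end Cfsg.Agent.Ore
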