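import Cfsg.Agent.Ore.Small
import Cfsg.Agent.Classical.FieldCongr

/-! Thompson's theorem: every element of `SL_n(q)` is a commutator (`comm_SL`), and the square of a
semisimple class of `SL_3(q)` contains every non-scalar element (`sl3_sq`). -/

set_option autoImplicit false

namespace Cfsg.Agent.Ore

open Module Polynomial Matrix Cfsg.Agent.Classical Cfsg.Agent.Elu

variable {F : Type*} [Field F] [Finite F] {ι : Type*} [Fintype ι] [DecidableEq ι]

theorem dm_elemDiv (A : Matrix ι ι F) : dm (elemDiv (toLin' A)) = A.det := by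
  rw [← dt_charpoly, ← charpoly_toLin', charpoly_eq_prod]
  have : ∀ M : Multiset F[X], (∀ a ∈ M, a ≠ 0) → dm M = dt M.prod := fun M => by
    induction M using Multiset.induction_on with
    | empty => simp [dm, dt_one]
    | cons a M ih =>
      intro h
      have h' : ∀ a ∈ M, a ≠ 0 := fun x hx => h x (by simp [hx])
      rw [dm_cons, Multiset.prod_cons, dt_mul (h a (by simp)) (Multiset.prod_ne_zero fun h0 => h' 0 h0 rfl),
        ih h']
  exact this _ fun a ha => (isPP_of_mem ha).ne_zero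

theorem pp_elemDiv {A : Matrix ι ι F} (h : A.det ≠ 0) : ∀ a ∈ elemDiv (toLin' A), IsPP a ∧ dt a ≠ 0 :=
  fun a ha => ⟨isPP_of_mem ha, fun h0 => h (by
    rw [← dm_elemDiv, dm]
    exact Multiset.prod_eq_zero (Multiset.mem_map.2 ⟨a, ha, h0⟩))⟩

theorem dsum_elemDiv' (A : Matrix ι ι F) : dsum (elemDiv (toLin' A)) = Fintype.card ι :=
  sum_natDegree_elemDiv_mat A

theorem isConj_of_ty {A B : Matrix ι ι F} (h : ty A = ty B) : IsConj A B :=
  isConj_of_kd fun _ _ _ _ => congrFun h _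

theorem isConj_SL_of_irr {x y : SpecialLinearGroup ι F} (h0 : Irr (ty x.1)) (h : ty x.1 = ty y.1) :
    IsConj x y := by
  obtain ⟨N, h1, h2, p, hp, hp'⟩ := h0
  exact isConj_SL_of_mem hp' (elemDiv_of_ty h1 h2 ▸ hp) (isConj_of_ty h)

theorem Rel.existsSL {g : SpecialLinearGroup ι F} {σ ρ : F[X] → ℕ} {c : F} (h : Rel (ty g.1) c σ ρ 1) :
    ∃ D : SpecialLinearGroup ι F, ty D.1 = σ ∧ ty (g * D).1 = ρ := by
  obtain ⟨D, -, h1, h2, h3⟩ := h.exists
  obtain ⟨E, hE⟩ : ∃ E : SpecialLinearGroup ι F, E.1 = D := ⟨⟨D, h3⟩, rfl⟩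
  have : (g * E).1 = g.1 * E.1 := rfl
  exact ⟨E, hE ▸ h1, by rw [this, hE, h2]⟩

theorem Cm.comm {g : SpecialLinearGroup ι F} (h : Cm (ty g.1) 1) : ∃ a b, g = a * b * a⁻¹ * b⁻¹ := by
  obtain ⟨σ, h0, h⟩ := h
  obtain ⟨D, rfl, h2⟩ := h.existsSL
  obtain ⟨c, hc⟩ := isConj_iff.1 (isConj_SL_of_irr h0 h2.symm)
  exact ⟨c, D, by rw [hc, mul_inv_cancel_right]⟩

theorem Neu.comm {g : SpecialLinearGroup ι (ZMod 2)} (h : Neu (ty g.1) 1) :
    ∃ a b, g = a * b * a⁻¹ * b⁻¹ := by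
  obtain ⟨σ, h⟩ := h
  obtain ⟨D, rfl, h2⟩ := h.existsSL
  obtain ⟨P, Q, e1, e2, e3⟩ := sim_of_ty h2
  have hP : P.det = 1 := by
    have := congrArg det e1
    rw [det_mul, det_one] at this
    generalize P.det = x at this
    generalize Q.det = y at this
    revert x y; decide
  obtain ⟨E, rfl⟩ : ∃ E : SpecialLinearGroup ι (ZMod 2), E.1 = P := ⟨⟨P, hP⟩, rfl⟩
  have : g * D * E = E * D := Subtype.ext e3
  exact ⟨E, D, by rw [← this]; group⟩

theorem comm_SL {F : Type*} [Field F] [Fintype F] (hn : 2 ≤ Fintype.card ι)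
    (hex : Fintype.card ι = 2 → 4 ≤ Fintype.card F) (g : SpecialLinearGroup ι F) :
    ∃ a b, g = a * b * a⁻¹ * b⁻¹ := by
  classical
  have tr : ∀ {K : Type} [Field K] (e : F ≃+* K), (∀ g : SpecialLinearGroup ι K,
      ∃ a b, g = a * b * a⁻¹ * b⁻¹) → ∃ a b, g = a * b * a⁻¹ * b⁻¹ := fun e h => by
    obtain ⟨a, b, hab⟩ := h (slCongr e g)
    exact ⟨(slCongr e).symm a, (slCongr e).symm b, (slCongr e).injective (by simpa using hab)⟩
  have h1 := Fintype.one_lt_card (α := F)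
  by_cases h2 : Fintype.card F = 2
  · obtain ⟨e⟩ := nonempty_ringEquiv_zmod (F := F) (p := 2) (by simpa using h2)
    refine tr e fun g => Neu.comm ?_
    rw [ty_eq_tm]
    exact neu_two' (pp_elemDiv (by simp)) (by rw [dsum_elemDiv']; omega)
  by_cases h3 : Fintype.card F = 3
  · have : Fact (Nat.Prime 3) := ⟨Nat.prime_three⟩
    obtain ⟨e⟩ := nonempty_ringEquiv_zmod (F := F) (p := 3) (by simpa using h3)
    refine tr e fun g => Cm.comm ?_
    rw [ty_eq_tm]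
    exact cm_three (pp_elemDiv (by simp)) (by simp [dm_elemDiv]) (by rw [dsum_elemDiv']; omega)
  have h4 : ∀ x y z : F, ∃ w, w ≠ x ∧ w ≠ y ∧ w ≠ z := fun x y z => by
    obtain ⟨w, -, hw⟩ := Finset.exists_mem_notMem_of_card_lt_card (s := {x, y, z}) (t := Finset.univ)
      (Finset.card_le_three.trans_lt (by rw [Finset.card_univ]; omega))
    exact ⟨w, by simpa using hw⟩
  refine Cm.comm ?_
  rw [ty_eq_tm]
  refine cm_main (pp_elemDiv (by simp)) (fun a _ _ => h4 _ _ _) (by simp [dm_elemDiv]) (fun h => ?_)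
    (.inr ?_)
  · have := dsum_elemDiv' g.1
    rw [h] at this
    simp at this; omega
  · obtain ⟨d, d0, d1, d2⟩ := h4 0 1 (-1)
    exact ⟨d, d0, fun h => (sq_eq_one_iff.1 h).elim d1 d2⟩

theorem coprime_of_sqfree (p : ℕ) [hp : Fact p.Prime] [CharP F p] {x : SpecialLinearGroup ι F} {f : F[X]}
    (hf : Squarefree f) (h : aeval x.1 f = 0) : ¬ p ∣ orderOf x := by
  rintro ⟨m, hm⟩
  have hpos : 0 < orderOf x := orderOf_pos x
  have h1 : aeval x.1 ((X ^ m - 1 : F[X]) ^ p) = 0 := by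
    rw [sub_pow_char, ← pow_mul, mul_comm, ← hm]
    have : x.1 ^ orderOf x = 1 := congrArg Subtype.val (pow_orderOf_eq_one x)
    simp [this]
  have h2 : aeval x.1 (X ^ m - 1 : F[X]) = 0 := aeval_mat_eq_zero_iff.2 fun a ha =>
    (hf.squarefree_of_dvd (aeval_mat_eq_zero_iff.1 h a ha)).isRadical _ _
      (aeval_mat_eq_zero_iff.1 h1 a ha)
  have h3 : x ^ m = 1 := Subtype.ext (show x.1 ^ m = 1 by simpa [sub_eq_zero] using h2)
  have := Nat.le_of_dvd (Nat.pos_of_mul_pos_left (hm ▸ hpos)) (orderOf_dvd_of_pow_eq_one h3)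
  have := hp.1.two_le
  nlinarith [Nat.pos_of_mul_pos_left (hm ▸ hpos)]

theorem sl3_sq (p : ℕ) [Fact p.Prime] [CharP F p] : ∃ x : SpecialLinearGroup (Fin 3) F, ¬ p ∣ orderOf x ∧
    ∀ g : SpecialLinearGroup (Fin 3) F, (¬ ∃ c : F, g.1 = c • 1) →
      ∃ u v, g = (u * x * u⁻¹) * (v * x * v⁻¹) := by
  obtain ⟨s, hs⟩ : ∃ s : F, s ^ 2 ≠ 4 := by
    by_cases h : (4 : F) = 0
    · exact ⟨1, by simp [h]⟩
    · exact ⟨0, by simpa using Ne.symm h⟩
  have h1 : (qd s 1).eval 1 ≠ 0 := fun h => hs (by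
    rw [eval_qd] at h; linear_combination (-s - 2) * h)
  let x : SpecialLinearGroup (Fin 3) F := ⟨!![1, 0, 0; 0, 0, -1; 0, 1, s], by simp [det_fin_three]⟩
  let w : SpecialLinearGroup (Fin 3) F := ⟨!![-1, 0, 0; 0, 0, 1; 0, 1, 0], by simp [det_fin_three]⟩
  have hw : w * x * w⁻¹ = x⁻¹ := by
    rw [mul_inv_eq_iff_eq_mul, eq_inv_mul_iff_mul_eq, ← mul_assoc]
    refine Subtype.ext (show x.1 * w.1 * x.1 = w.1 from ?_)
    ext i j; fin_cases i <;> fin_cases j <;> simp [x, w, Matrix.mul_apply, Fin.sum_univ_three]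
  have hx : ty x.1 = gdeg (X - C 1) + gdeg (qd s 1) := by
    have := ty_two (0 : F) (-1) 1 s (by simp)
    simp only [zero_add, zero_mul, mul_one, zero_sub, neg_neg] at this
    rw [← this, ← ty_s1, ← ty_diag, ← ty_submatrix x.1 (⟨Sum.elim (fun _ => 0) ![1, 2],
      ![.inl (), .inr 0, .inr 1], by decide, by decide⟩ : Unit ⊕ Fin 2 ≃ Fin 3)]
    congr 1
    ext (i | i) (j | j)
    · simp [x, s1]
    · fin_cases j <;> simp [x]
    · fin_cases i <;> simp [x]
    · fin_cases i <;> fin_cases j <;> simp [x]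
  have m1 := (monic_X_sub_C (1 : F)).mul (qd_monic s 1)
  have hx' := gdeg_mul (monic_X_sub_C (1 : F)) (qd_monic s 1) (coprime_of_eval h1)
  refine ⟨x, coprime_of_sqfree p (f := (X - C 1) * qd s 1) ?_ (aeval_of_ty m1.ne_zero (hx.trans hx'.symm)),
    fun g hg => ?_⟩
  · refine (squarefree_mul_iff.2 ⟨(coprime_of_eval h1).isRelPrime, (irreducible_X_sub_C 1).squarefree,
      Separable.squarefree ?_⟩)
    have h4 : 4 - s ^ 2 ≠ 0 := sub_ne_zero.2 hs.symm
    refine ⟨C (4 / (4 - s ^ 2)), -C (1 / (4 - s ^ 2)) * (2 * X - C s), ?_⟩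
    have e : (C (4 - s ^ 2)⁻¹ * (4 - C s ^ 2) : F[X]) = 1 := by
      rw [← C_pow, ← map_ofNat C, ← C_sub, ← C_mul, inv_mul_cancel₀ h4, C_1]
    simp only [qd, div_eq_mul_inv, map_mul, map_one, one_mul, derivative_add, derivative_sub,
      derivative_X_pow, derivative_mul, derivative_C, derivative_X, derivative_one, map_ofNat,
      Nat.cast_ofNat]
    linear_combination e
  have hG := good_three (pp_elemDiv (A := g.1) (by simp)) (by simp [dsum_elemDiv']) (by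
    rintro ⟨c, hc⟩
    refine hg ⟨c, toLin'.injective ?_⟩
    rw [eq_smul_one_of_forall hc, map_smul, toLin'_one]; rfl)
  have := hG 1 (qd s 1) _ (qd_monic _ _) m1 (by rw [qd_natDegree])
    (by rw [(monic_X_sub_C _).natDegree_mul (qd_monic _ _), natDegree_X_sub_C, qd_natDegree]) one_ne_zero
    (by simp [dt_qd]) h1
    (by rw [dt_mul (X_sub_C_ne_zero _) (qd_monic _ _).ne_zero, dt_X_sub_C, dm_elemDiv]; simp)
  rw [← ty_eq_tm, hx', dt_qd, mul_one] at this
  obtain ⟨D, h2, h3⟩ := this.existsSL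
  have hi : Irr (ty x.1) := hx ▸ (irr_lin 1).add (isTy_gdeg (qd_monic _ _).ne_zero)
  obtain ⟨u, hu⟩ := isConj_iff.1 (isConj_SL_of_irr hi (hx.trans h3.symm))
  obtain ⟨v, hv⟩ := isConj_iff.1 (isConj_SL_of_irr hi (hx.trans h2.symm))
  refine ⟨u, v * w, ?_⟩
  rw [hu, show v * w * x * (v * w)⁻¹ = v * (w * x * w⁻¹) * v⁻¹ by group, hw,
    show v * x⁻¹ * v⁻¹ = (v * x * v⁻¹)⁻¹ by group, hv, mul_inv_cancel_right]

end Cfsg.Agent.Ore
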