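import Cfsg.Agent.Ore.Tr

/-! The case analysis of Thompson's commutator theorem for fields with at least three elements
(`cm_main`), the three dimensional block lemma (`good_three`). -/

set_option autoImplicit false

namespace Cfsg.Agent.Ore

open Module Polynomial Matrix Cfsg.Agent.Classical Cfsg.Agent.Elu

variable {F : Type*} [Field F] [Finite F]

omit [Finite F] in
theorem mon {a : F[X]} (h : IsPP a) : a.Monic := Elu.IsPP.monic h

omit [Finite F] in
theorem dsum_singleton (a : F[X]) : dsum {a} = a.natDegree := by simp [dsum]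

omit [Finite F] in
theorem dm_singleton (a : F[X]) : dm {a} = dt a := by simp [dm]

omit [Finite F] in
theorem pp_cases {a b : F[X]} (ha : IsPP a) (hb : IsPP b) : IsCoprime a b ∨
    ∃ (p : F[X]) (e e' : ℕ), p.Monic ∧ 0 < p.natDegree ∧ 0 < e ∧ 0 < e' ∧ a = p ^ e ∧ b = p ^ e' := by
  obtain ⟨p, e, h1, h2, h3, rfl⟩ := ha
  obtain ⟨p', e', h1', h2', h3', rfl⟩ := hb
  by_cases h : p = p'
  · subst h
    exact .inr ⟨p, e, e', h2, h1.natDegree_pos, h3, h3', rfl, rfl⟩
  · exact .inl (isCoprime_of_ne h1 h2 h1' h2' h).pow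

omit [Finite F] in
theorem pp_pos {a : F[X]} (ha : IsPP a) : 0 < a.natDegree := by
  obtain ⟨p, e, h1, h2, h3, rfl⟩ := ha
  rw [natDegree_pow]
  exact Nat.mul_pos h3 h1.natDegree_pos

omit [Finite F] in
theorem pp_coprime {a b : F[X]} (ha : IsPP a) (hb : IsPP b) (h : a ≠ b) (hd : a.natDegree = b.natDegree) :
    IsCoprime a b := by
  refine (pp_cases ha hb).resolve_right ?_
  rintro ⟨p, e, e', -, h0, -, -, rfl, rfl⟩
  rw [natDegree_pow, natDegree_pow] at hd
  exact h (by rw [Nat.eq_of_mul_eq_mul_right h0 hd])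

theorem good_mul {a b : F[X]} (ha : a.Monic) (hb : b.Monic) (h : IsCoprime a b)
    (h2 : 2 ≤ a.natDegree + b.natDegree) (ha0 : dt a ≠ 0) (hb0 : dt b ≠ 0) :
    Good (gdeg a + gdeg b) (dt a * dt b) (a.natDegree + b.natDegree) := by
  rw [← gdeg_mul ha hb h, ← dt_mul ha.ne_zero hb.ne_zero, ← ha.natDegree_mul hb]
  exact good_cyc (ha.mul hb) (by rwa [ha.natDegree_mul hb])
    (by rw [dt_mul ha.ne_zero hb.ne_zero]; exact mul_ne_zero ha0 hb0)

theorem good_21 {a b : F[X]} (ha : IsPP a) (hb : IsPP b) (h2 : a.natDegree = 2) (h1 : b.natDegree = 1)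
    (ha0 : dt a ≠ 0) (hb0 : dt b ≠ 0) : Good (gdeg a + gdeg b) (dt a * dt b) 3 := by
  rcases pp_cases ha hb with h | ⟨p, e, e', hp, h0, -, -, rfl, rfl⟩
  · simpa [h1, h2] using good_mul (mon ha) (mon hb) h (by omega) ha0 hb0
  · rw [natDegree_pow] at h1 h2
    obtain rfl : e' = 1 := Nat.eq_one_of_mul_eq_one_right h1
    rw [one_mul] at h1
    obtain rfl : e = 2 := by simpa [h1] using h2
    rw [pow_one] at hb0 ⊢
    rw [pow_two, dt_mul hp.ne_zero hp.ne_zero, ← pow_two (dt p), add_comm]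
    have := good_refl hb0 hb0
    rwa [← eq_lin hp h1] at this

theorem good_111 {x y z : F} (hx : x ≠ 0) (hy : y ≠ 0) (hz : z ≠ 0) (h : x ≠ y) :
    Good (gdeg (X - C x) + gdeg (X - C y) + gdeg (X - C z)) (x * y * z) 3 := by
  have cp : ∀ {x y : F}, x ≠ y → IsCoprime (X - C x) (X - C y) := fun h =>
    isCoprime_X_sub_C_of_isUnit_sub (sub_ne_zero.2 h).isUnit
  by_cases h1 : z = x
  · subst h1
    have := good_refl hx hy
    rw [gdeg_mul (monic_X_sub_C _) (monic_X_sub_C _) (cp h)] at this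
    convert this using 1
    · abel
    · ring
  by_cases h2 : z = y
  · subst h2
    have := good_refl hy hx
    rw [gdeg_mul (monic_X_sub_C _) (monic_X_sub_C _) (cp h.symm)] at this
    convert this using 1
    · abel
    · ring
  have := good_mul ((monic_X_sub_C x).mul (monic_X_sub_C y)) (monic_X_sub_C z)
    ((cp (Ne.symm h1)).mul_left (cp (Ne.symm h2))) (by
      rw [(monic_X_sub_C _).natDegree_mul (monic_X_sub_C _)]; simp) (by
      rw [dt_mul (X_sub_C_ne_zero _) (X_sub_C_ne_zero _), dt_X_sub_C, dt_X_sub_C]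
      exact mul_ne_zero hx hy) (by rwa [dt_X_sub_C])
  rw [gdeg_mul (monic_X_sub_C _) (monic_X_sub_C _) (cp h), dt_mul (X_sub_C_ne_zero _) (X_sub_C_ne_zero _),
    (monic_X_sub_C _).natDegree_mul (monic_X_sub_C _)] at this
  simpa [dt_X_sub_C] using this

omit [Finite F] in
theorem exists_cons_cons {M : Multiset F[X]} {a b : F[X]} (ha : a ∈ M) (hb : b ∈ M) (h : b ≠ a) :
    ∃ R, M = a ::ₘ b ::ₘ R := by
  obtain ⟨N, rfl⟩ := Multiset.exists_cons_of_mem ha
  obtain ⟨R, rfl⟩ := Multiset.exists_cons_of_mem ((Multiset.mem_cons.1 hb).resolve_left h)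
  exact ⟨R, rfl⟩

theorem good_three {M : Multiset F[X]} (hM : ∀ a ∈ M, IsPP a ∧ dt a ≠ 0) (h3 : dsum M = 3)
    (hs : ¬ ∃ x, ∀ a ∈ M, a = X - C x) : Good (tm M) (dm M) 3 := by
  have z : ∀ R : Multiset F[X], (∀ a ∈ R, IsPP a ∧ dt a ≠ 0) → dsum R = 0 → R = 0 := fun R hR h0 => by
    by_contra hne
    obtain ⟨a, ha⟩ := Multiset.exists_mem_of_ne_zero hne
    obtain ⟨N, rfl⟩ := Multiset.exists_cons_of_mem ha
    have := pp_pos (hR a ha).1
    rw [dsum_cons] at h0; omega
  by_cases hl : ∀ a ∈ M, a.natDegree = 1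
  · obtain ⟨a, ha⟩ := Multiset.exists_mem_of_ne_zero (s := M) (by rintro rfl; simp at h3)
    obtain ⟨b, hb, hab⟩ : ∃ b ∈ M, b ≠ a := by
      by_contra hc
      push Not at hc
      exact hs ⟨dt a, fun b hb => (hc b hb).trans (eq_lin (mon (hM a ha).1) (hl a ha))⟩
    obtain ⟨R, rfl⟩ := exists_cons_cons ha hb hab
    obtain ⟨c, hc⟩ := Multiset.exists_mem_of_ne_zero (s := R) (by
      rintro rfl; simp [hl a ha, hl b hb, dsum_singleton] at h3)
    obtain ⟨N, rfl⟩ := Multiset.exists_cons_of_mem hc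
    have hc' : c ∈ a ::ₘ b ::ₘ c ::ₘ N := by simp
    obtain rfl : N = 0 := z N (fun x hx => hM x (by simp [hx])) (by
      simp [hl a ha, hl b hb, hl c hc'] at h3; omega)
    have ea := eq_lin (mon (hM a ha).1) (hl a ha)
    have eb := eq_lin (mon (hM b hb).1) (hl b hb)
    have := good_111 (hM a ha).2 (hM b hb).2 (hM c hc').2 fun h => hab (by rw [ea, eb, h])
    rw [← ea, ← eb, ← eq_lin (mon (hM c hc').1) (hl c hc')] at this
    simpa [tm_cons, dm_cons, tm_singleton, dm_singleton, add_assoc, mul_assoc] using this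
  push Not at hl
  obtain ⟨a, ha, h1⟩ := hl
  obtain ⟨N, rfl⟩ := Multiset.exists_cons_of_mem ha
  have h0 := pp_pos (hM a ha).1
  rw [dsum_cons] at h3
  by_cases h : a.natDegree = 3
  · obtain rfl : N = 0 := z N (fun x hx => hM x (by simp [hx])) (by omega)
    simpa [tm_cons, dm_cons, tm_singleton, dm_singleton, h] using
      good_cyc (mon (hM a ha).1) (by omega) (hM a ha).2
  obtain ⟨b, hb⟩ := Multiset.exists_mem_of_ne_zero (s := N) (by rintro rfl; simp at h3; omega)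
  obtain ⟨R, rfl⟩ := Multiset.exists_cons_of_mem hb
  have hb' : b ∈ a ::ₘ b ::ₘ R := by simp
  have := pp_pos (hM b hb').1
  rw [dsum_cons] at h3
  obtain rfl : R = 0 := z R (fun x hx => hM x (by simp [hx])) (by omega)
  simpa [tm_cons, dm_cons, tm_singleton, dm_singleton] using
    good_21 (hM a ha).1 (hM b hb').1 (by omega) (by omega) (hM a ha).2 (hM b hb').2

theorem tr_chain {a : F[X]} (ha : a.Monic) (h2 : a.natDegree = 2) (h0 : dt a ≠ 0) (hc : dt a ^ 2 ≠ 1)
    (k : ℕ) : ∀ d ≠ 0, ∃ δ, δ * dt a ^ (2 * (k + 1)) = d ^ (2 * (k + 1)) * dt a ^ ((k + 1) * (k + 1)) ∧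
      Tr ((k + 1) • gdeg a) (dt a ^ (k + 1)) d δ := by
  have h1 : ∀ d ≠ 0, Tr (gdeg a) (dt a) d (d * (d * (dt a)⁻¹)) := fun d hd =>
    tr_two ha h2 h0 hd (inv_ne_zero h0) (fun h => hc (by rw [inv_eq_one.1 h, one_pow]))
      fun h => hc (by rw [pow_two]; nth_rw 1 [← h]; exact inv_mul_cancel₀ h0)
  induction k with
  | zero => exact fun d hd => ⟨d * (d * (dt a)⁻¹), by field_simp; ring, by simpa using h1 d hd⟩
  | succ k ih =>
    intro d hd
    obtain ⟨δ, e1, e2⟩ := ih _ (mul_ne_zero hd h0)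
    refine ⟨_, ?_, by rw [succ_nsmul', pow_succ']; exact (h1 d hd).add e2⟩
    field_simp
    linear_combination (d ^ 2 * dt a ^ 2) * e1

theorem cm_rep {a : F[X]} (ha : a.Monic) (h2 : a.natDegree = 2) {k : ℕ} (hk0 : k ≠ 0)
    (hk : dt a ^ k = 1) (hν : ∃ ν : F, ν ≠ 0 ∧ ν ≠ 1 ∧ ν ≠ dt a)
    (h : 2 ≤ k ∨ ∃ d : F, d ≠ 0 ∧ d ^ 2 ≠ 1) : Cm (k • gdeg a) 1 := by
  have h0 : dt a ≠ 0 := fun h => by simp [h, hk0] at hk
  obtain ⟨ν, n0, n1, n2⟩ := hν
  by_cases hc : dt a ^ 2 = 1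
  · have pair : Cm (2 • gdeg a) 1 := by
      have := (tr_two ha h2 h0 one_ne_zero n0 n1 n2).add (tr_two ha h2 h0 (by rwa [one_mul])
        (inv_ne_zero n0) (fun h => n1 (inv_eq_one.1 h)) fun h => n2 (by
          rw [← inv_inv ν, h]; exact (eq_inv_of_mul_eq_one_left (by rwa [← pow_two])).symm))
      rw [← pow_two, hc, ← two_nsmul] at this
      convert this.cm
      field_simp
      exact hc.symm
    by_cases h1 : dt a = 1
    · by_cases hd : ∃ d : F, d ≠ 0 ∧ d ^ 2 ≠ 1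
      · obtain ⟨d, d0, d1⟩ := hd
        have := tr_two ha h2 h0 d0 (inv_ne_zero (pow_ne_zero 2 d0)) (fun h => d1 (inv_eq_one.1 h))
          (by rw [h1]; exact fun h => d1 (inv_eq_one.1 h))
        rw [h1, show d * (d * (d ^ 2)⁻¹) = 1 by field_simp] at this
        exact this.cm.nsmul hk0
      · obtain ⟨j, rfl⟩ := Nat.exists_eq_add_of_le (h.resolve_right hd)
        push Not at hd
        have : (2 : F) ≠ 0 := fun h => n1 (by
          have := hd ν n0
          have : (ν - 1) ^ 2 = 0 := by linear_combination this - (ν - 1) * h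
          exact sub_eq_zero.1 (pow_eq_zero_iff two_ne_zero |>.1 this))
        have hn : Neu (gdeg a) 1 := by
          rw [eq_qd ha h2, h1]; exact neu_two (.inr this)
        rw [add_nsmul, ← mul_one (1 : F)]
        exact pair.add (hn.nsmul j)
    · obtain ⟨j, rfl | rfl⟩ := k.even_or_odd'
      · rw [mul_nsmul]
        exact pair.nsmul (by omega)
      · rw [pow_succ, pow_mul, hc, one_pow, one_mul] at hk
        exact absurd hk h1
  · obtain ⟨k, rfl⟩ := Nat.exists_eq_succ_of_ne_zero hk0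
    obtain ⟨δ, e1, e2⟩ := tr_chain ha h2 h0 hc k 1 one_ne_zero
    rw [mul_comm 2, pow_mul, pow_mul (dt a), hk] at e1
    rw [hk, show δ = 1 by simpa using e1] at e2
    exact e2.cm

theorem cm_lin {x : F} {k : ℕ} (hk0 : k ≠ 0) (hk : x ^ k = 1) : Cm (k • gdeg (X - C x)) 1 := by
  have := Fintype.ofFinite F
  have h0 : x ≠ 0 := fun h => by simp [h, hk0] at hk
  obtain ⟨m, rfl⟩ := orderOf_dvd_of_pow_eq_one hk
  rw [mul_nsmul]
  refine (cm_scalar (Nat.pos_of_ne_zero (left_ne_zero_of_mul hk0)) (fun h => ?_)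
    (pow_orderOf_eq_one x)).nsmul (right_ne_zero_of_mul hk0)
  obtain ⟨r, hr⟩ := orderOf_dvd_of_pow_eq_one (FiniteField.pow_card_sub_one_eq_one x h0)
  have := congrArg (Nat.cast : ℕ → F) hr
  rw [Nat.cast_sub Fintype.card_pos, Nat.cast_mul, h, FiniteField.cast_card_eq_zero] at this
  simp at this

theorem weak_of {a : F[X]} (ha : IsPP a) (h0 : dt a ≠ 0)
    (h : a.natDegree = 2 → ∃ ν : F, ν ≠ 0 ∧ ν ≠ 1 ∧ ν ≠ dt a) : Weak (gdeg a) (dt a) := by
  have := pp_pos ha
  by_cases h1 : a.natDegree = 1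
  · have := weak_lin h0
    rwa [← eq_lin (mon ha) h1] at this
  by_cases h2 : a.natDegree = 2
  · obtain ⟨ν, n0, n1, n2⟩ := h h2
    exact ⟨h0, fun d hd => ⟨_, mul_ne_zero hd (mul_ne_zero hd n0), tr_two (mon ha) h2 h0 hd n0 n1 n2⟩⟩
  · exact (univ_big (mon ha) (by omega) h0).weak

theorem cm_main {M : Multiset F[X]} (hM : ∀ a ∈ M, IsPP a ∧ dt a ≠ 0)
    (hW : ∀ a ∈ M, a.natDegree = 2 → ∃ ν : F, ν ≠ 0 ∧ ν ≠ 1 ∧ ν ≠ dt a) (h1 : dm M = 1) (h0 : M ≠ 0)
    (hn : 3 ≤ dsum M ∨ ∃ d : F, d ≠ 0 ∧ d ^ 2 ≠ 1) : Cm (tm M) 1 := by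
  have key : ∀ U R, M = U + R → Univ (tm U) (dm U) → Cm (tm M) 1 := fun U R e h => by
    have := h.add (wd_tm (M := R) fun a ha => by
      have ha' : a ∈ M := by simp [e, ha]
      exact weak_of (hM a ha').1 (hM a ha').2 (hW a ha'))
    rw [← tm_add, ← dm_add, ← e, h1] at this
    exact this.cm
  by_cases h3 : ∃ a ∈ M, 3 ≤ a.natDegree
  · obtain ⟨a, ha, h3⟩ := h3
    obtain ⟨R, e⟩ := Multiset.exists_cons_of_mem ha
    refine key {a} R e ?_
    simpa [tm_singleton, dm] using univ_big (mon (hM a ha).1) h3 (hM a ha).2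
  push Not at h3
  by_cases h2 : ∃ a ∈ M, a.natDegree = 2
  · obtain ⟨a, ha, h2⟩ := h2
    by_cases hb : ∃ b ∈ M, b ≠ a
    · obtain ⟨b, hb, hab⟩ := hb
      obtain ⟨R, e⟩ := exists_cons_cons ha hb hab
      refine key (a ::ₘ {b}) R (by simp [e]) ?_
      rw [tm_cons, tm_singleton, show dm (a ::ₘ {b}) = dt a * dt b by simp [dm]]
      have hab0 := mul_ne_zero (hM a ha).2 (hM b hb).2
      by_cases hb2 : b.natDegree = 2
      · exact (good_mul (mon (hM a ha).1) (mon (hM b hb).1) (pp_coprime (hM a ha).1 (hM b hb).1 hab.symm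
          (by omega)) (by omega) (hM a ha).2 (hM b hb).2).univ (by omega) hab0
      · have := pp_pos (hM b hb).1
        have := h3 b hb
        exact (good_21 (hM a ha).1 (hM b hb).1 h2 (by omega) (hM a ha).2 (hM b hb).2).univ le_rfl hab0
    · push Not at hb
      have e := Multiset.eq_replicate_card.2 hb
      rw [e, dm_replicate] at h1
      rw [e, dsum_replicate, h2] at hn
      rw [e, tm_replicate]
      exact cm_rep (mon (hM a ha).1) h2 (by simpa using h0) h1 (hW a ha h2) (hn.imp_left (by omega))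
  push Not at h2
  have hl : ∀ a ∈ M, a.natDegree = 1 := fun a ha => by
    have := pp_pos (hM a ha).1
    have := h2 a ha
    have := h3 a ha
    omega
  obtain ⟨a, ha⟩ := Multiset.exists_mem_of_ne_zero h0
  have ea := eq_lin (mon (hM a ha).1) (hl a ha)
  by_cases hb : ∃ b ∈ M, b ≠ a
  · obtain ⟨b, hb, hab⟩ := hb
    obtain ⟨R, e⟩ := exists_cons_cons ha hb hab
    by_cases hR : R = 0
    · subst hR
      have hd : ∃ d : F, d ≠ 0 ∧ d ^ 2 ≠ 1 := hn.resolve_left (by simp [e, hl a ha, hl b hb, dsum_singleton])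
      have m1 := (mon (hM a ha).1)
      have m2 := (mon (hM b hb).1)
      have e1 : dt (a * b) = 1 := by
        rw [dt_mul m1.ne_zero m2.ne_zero, ← h1, e]; simp [dm]
      have := cm_rep (m1.mul m2) (by rw [m1.natDegree_mul m2, hl a ha, hl b hb]) one_ne_zero
        (by rw [e1, one_pow]) (by
          obtain ⟨d, d0, d1⟩ := hd
          exact ⟨d ^ 2, pow_ne_zero 2 d0, d1, e1 ▸ d1⟩) (.inr hd)
      rw [gdeg_mul m1 m2 (pp_coprime (hM a ha).1 (hM b hb).1 hab.symm (by rw [hl a ha, hl b hb]))] at this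
      simpa [e, tm_cons, tm_singleton] using this
    · obtain ⟨c, hc⟩ := Multiset.exists_mem_of_ne_zero hR
      obtain ⟨N, rfl⟩ := Multiset.exists_cons_of_mem hc
      have hc' : c ∈ M := by simp [e]
      refine key (a ::ₘ b ::ₘ {c}) N (by simp [e]) (Good.univ (good_three ?_ ?_ ?_) le_rfl ?_)
      · intro x hx
        exact hM x (by simp only [Multiset.mem_cons, Multiset.mem_singleton] at hx; rcases hx with rfl | rfl | rfl <;> assumption)
      · simp [dsum, hl a ha, hl b hb, hl c hc']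
      · rintro ⟨x, hx⟩
        exact hab ((hx b (by simp)).trans (hx a (by simp)).symm)
      · simp [dm, (hM a ha).2, (hM b hb).2, (hM c hc').2]
  · push Not at hb
    have e := Multiset.eq_replicate_card.2 hb
    rw [e, dm_replicate] at h1
    rw [e, tm_replicate, ea]
    exact cm_lin (by simpa using h0) h1

end Cfsg.Agent.Ore
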