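import Cfsg.Agent.Ore.Block

/-! The block lemma for a scalar plus a rank one matrix (`good_refl`), `2 × 2` blocks (`rel_two`),
transport of `Rel` (`Rel.exists`), linking a Jordan block of size two (`Rel.link`). -/

set_option autoImplicit false

namespace Cfsg.Agent.Ore

open Module Polynomial Matrix Cfsg.Agent.Classical

variable {F : Type*} [Field F] {ι κ : Type*} [Fintype ι] [DecidableEq ι] [Fintype κ] [DecidableEq κ]

theorem det_refl (h3 : Fintype.card ι = 3) {a : F} (ha : a ≠ 0) (u φ : ι → F) :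
    (a • (1 : Matrix ι ι F) + vecMulVec u φ).det = a ^ 2 * (a + φ ⬝ᵥ u) := by
  have : a • (1 : Matrix ι ι F) + vecMulVec u φ =
      a • (1 + replicateCol Unit u * replicateRow Unit (a⁻¹ • φ)) := by
    rw [← vecMulVec_eq, smul_add, vecMulVec_smul, smul_smul, mul_inv_cancel₀ ha, one_smul]
  rw [this, det_smul, det_one_add_replicateCol_mul_replicateRow, h3, smul_dotProduct, smul_eq_mul]
  field_simp

theorem good_refl [Finite F] {a b : F} (ha : a ≠ 0) (hb : b ≠ 0) :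
    Good (gdeg (X - C a) + gdeg ((X - C a) * (X - C b))) (a ^ 2 * b) 3 := by
  intro d h f hh hf e1 e2 hd hdh hhd hdt
  have m1 : ((X - C d) * h).Monic := (monic_X_sub_C d).mul hh
  have d1 : ((X - C d) * h).natDegree = Fintype.card (Fin 3) := by
    rw [(monic_X_sub_C d).natDegree_mul hh, natDegree_X_sub_C]; simp; omega
  obtain ⟨k0, hk0⟩ := (cy_sh (F := F) 2).place m1 d1
  have hD := (cy_sh (F := F) 2).feedback k0
  set e : Fin 3 → F := Pi.single (Fin.last 2) 1 with he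
  set D := sh F (2 + 1) + vecMulVec e k0
  have hDt : ty D = gdeg (X - C d) + gdeg h := by
    rw [hD.ty m1 d1 hk0, gdeg_mul (monic_X_sub_C d) hh (coprime_of_eval hhd)]
  have hDd : D.det = d * dt h := by
    rw [← dt_charpoly, hD.charpoly m1 d1 hk0, dt_mul (X_sub_C_ne_zero d) hh.ne_zero, dt_X_sub_C]
  have hDu : IsUnit D.det := by rw [hDd]; exact (mul_ne_zero hd hdh).isUnit
  obtain ⟨k, hk⟩ := (hD.smul ha).place hf (by simp [e2])
  have hX := (hD.smul ha).feedback k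
  have hAD : (a • 1 + vecMulVec e (k ᵥ* D⁻¹)) * D = a • D + vecMulVec e k := by
    rw [add_mul, vecMulVec_mul, vecMul_vecMul, nonsing_inv_mul _ hDu]; simp
  have hXd : (a • D + vecMulVec e k).det = dt f := by
    rw [← dt_charpoly, hX.charpoly hf (by simp [e2]) hk]
  have hXt := hX.ty hf (by simp [e2]) hk
  have hab : a + (k ᵥ* D⁻¹) ⬝ᵥ e = b := by
    rw [← hAD, det_mul, det_refl (by simp) ha, hDd, hdt, mul_assoc _ d] at hXd
    exact mul_left_cancel₀ (pow_ne_zero 2 ha) (mul_right_cancel₀ (mul_ne_zero hd hdh) hXd)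
  by_cases h0 : k ᵥ* D⁻¹ = 0
  · rw [h0, zero_dotProduct, add_zero] at hab
    subst hab
    rw [← hAD, h0, vecMulVec_zero, add_zero, smul_mul_assoc, one_mul] at hXt
    obtain ⟨T, hT1, hT2, -⟩ := exists_T (m := 1) hh (by omega)
    have hT3 := aeval_of_ty hh.ne_zero hT1
    let u : Unit ⊕ Fin 2 → F := Pi.single (.inl ()) 1
    let φ : Unit ⊕ Fin 2 → F := Pi.single (.inr 0) 1
    have hφ : φ ⬝ᵥ u = 0 := by simp [φ, u]
    have hD' : ty (fromBlocks (s1 d) 0 0 T) = gdeg (X - C d) + gdeg h := by rw [ty_diag, ty_s1, hT1]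
    refine ⟨_, _, _, a • 1 + vecMulVec u φ, fromBlocks (s1 d) 0 0 T, ?_, ?_, hD', ?_, ?_⟩
    · rw [ty_refl (by simp) a (by simp [u]) (by simp [φ]), hφ, add_zero]
    · rw [det_refl (by simp) ha, hφ, add_zero]
    · have h1 : (a • 1 + vecMulVec u φ) * fromBlocks (s1 d) 0 0 T =
          fromBlocks (s1 (a * d)) (rw1 (T 0)) 0 (a • T) := by
        rw [add_mul, vecMulVec_mul]
        ext (i | i) (j | j) <;> simp [u, φ, s1, rw1, vecMulVec_apply]
      have h2 : a • fromBlocks (s1 d) 0 0 T = fromBlocks (s1 (a * d)) 0 0 (a • T) := by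
        ext (i | i) (j | j) <;> simp [s1]
      have h3 : IsUnit (aeval (a • T) (X - C (a * d))) := by
        have := isUnit_aeval_of_coprime hT3 (coprime_of_eval hhd).symm
        simp only [map_sub, aeval_X, aeval_C, Algebra.algebraMap_eq_smul_one] at this ⊢
        rw [mul_smul, ← smul_sub]
        exact this.smul (Units.mk0 a ha)
      rw [h1, ty_tri _ (.inr ⟨aeval_of_ty (X_sub_C_ne_zero _) (ty_s1 _), h3⟩), ← ty_diag, ← h2,
        ty_smul_congr (hD'.trans hDt.symm), hXt]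
    · rw [det_fromBlocks_zero₂₁, hT2, det_unique]; rfl
  · refine ⟨_, _, _, a • 1 + vecMulVec e (k ᵥ* D⁻¹), D, ?_, ?_, hDt, by rw [hAD, hXt], hDd⟩
    · rw [ty_refl (by simp) a (by simp [he]) h0, hab]
    · rw [det_refl (by simp) ha, hab]

theorem rel_two [Finite F] {t c d s : F} (hd : d ≠ 0) (hc : c ≠ 0) (hs : s ≠ d * t) :
    Rel (gdeg (qd t c)) c (gdeg (qd (d + d) (d * d))) (gdeg (qd s (c * (d * d)))) (d * d) := by
  refine Rel.intro !![0, 1; -c, t] !![d, (t * d - s) / c; 0, d] ?_ (by simp) ?_ ?_ (by simp)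
  · rw [ty_two _ _ _ _ one_ne_zero]; simp
  · rw [ty_two _ _ _ _ (div_ne_zero (sub_ne_zero.2 (by rw [mul_comm]; exact hs.symm)) hc)]; simp
  · rw [mul_fin_two, ty_two _ _ _ _ (by simpa)]
    congr 2
    · field_simp; ring
    · ring

theorem Rel.add {τ τ' σ σ' ρ ρ' : F[X] → ℕ} {c c' δ δ' : F} (h : Rel τ c σ ρ δ) (h' : Rel τ' c' σ' ρ' δ') :
    Rel (τ + τ') (c * c') (σ + σ') (ρ + ρ') (δ * δ') := by
  obtain ⟨ι, _, _, A, D, rfl, rfl, rfl, rfl, rfl⟩ := h
  obtain ⟨κ, _, _, A', D', rfl, rfl, rfl, rfl, rfl⟩ := h'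
  refine Rel.intro (fromBlocks A 0 0 A') (fromBlocks D 0 0 D') (ty_diag _ _) (by simp) (ty_diag _ _) ?_
    (by simp)
  rw [← ty_diag, fromBlocks_multiply]; simp

theorem Rel.zero : Rel (0 : F[X] → ℕ) 1 0 0 1 := by
  have : ∀ A : Matrix Empty Empty F, ty A = 0 := fun A => funext fun p =>
    Nat.le_zero.1 ((kd_le _ p).trans (by simp))
  exact Rel.intro (ι := Empty) 1 1 (this _) (by simp) (this _) (this _) (by simp)

theorem Rel.exists [Finite F] {g : Matrix ι ι F} {σ ρ : F[X] → ℕ} {c δ : F} (h : Rel (ty g) c σ ρ δ) :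
    ∃ D : Matrix ι ι F, g.det = c ∧ ty D = σ ∧ ty (g * D) = ρ ∧ D.det = δ := by
  obtain ⟨κ, _, _, A, D, h, rfl, rfl, rfl, rfl⟩ := h
  obtain ⟨P, Q, h1, h2, h3⟩ := sim_of_ty h.symm
  have hg : g = P * A * Q := by rw [← h3, Matrix.mul_assoc, h1, mul_one]
  refine ⟨P * D * Q, by rw [hg, det_conj_of_mul_eq_one h1 h2], ty_congr h1 h2 ?_, ty_congr h1 h2 ?_,
    det_conj_of_mul_eq_one h1 h2⟩
  · rw [Matrix.mul_assoc, h2, Matrix.mul_one]
  · rw [Matrix.mul_assoc, Matrix.mul_assoc, h2, Matrix.mul_one, ← Matrix.mul_assoc, h3, Matrix.mul_assoc]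

theorem ty_link [Finite F] {Z : Matrix κ κ F} {h : F[X]} (hh : h.Monic) (h1 : h.eval 1 ≠ 0)
    (hZ : ty Z = gdeg (X - C 1) + gdeg h) :
    ∃ w : κ → F, w ≠ 0 ∧ ∀ (x : F) (η : κ → F), (x ≠ 0 ∨ η ⬝ᵥ w ≠ 0) →
      ty (fromBlocks !![1, x; 0, 1] (vecMulVec (Pi.single (0 : Fin 2) (1 : F)) η) 0 Z) =
        gdeg (X - C 1) + gdeg ((X - C 1) * (X - C 1)) + gdeg h := by
  obtain ⟨H, hH⟩ := exists_ty hh.ne_zero
  obtain ⟨P, Q, e1, e2, e3⟩ := sim_of_ty (A := Z) (B := fromBlocks (s1 1) 0 0 H)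
    (by rw [hZ, ty_diag, ty_s1, hH])
  refine ⟨P *ᵥ Pi.single (.inl ()) 1, fun h0 => ?_, fun x η hx => ?_⟩
  · have := congrArg (Q *ᵥ ·) h0
    simp only [mulVec_mulVec, e2, one_mulVec, mulVec_zero] at this
    simpa using congrFun this (.inl ())
  rw [ty_congr (B := fromBlocks !![1, x; 0, 1] (vecMulVec (Pi.single (0 : Fin 2) (1 : F)) (η ᵥ* P)) 0 (fromBlocks (s1 1) 0 0 H))
    (P := fromBlocks 1 0 0 P) (Q := fromBlocks 1 0 0 Q) (by simp [fromBlocks_multiply, e1])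
    (by simp [fromBlocks_multiply, e2]) (by simp [fromBlocks_multiply, e3, vecMulVec_mul])]
  rw [dotProduct_mulVec] at hx
  generalize η ᵥ* P = θ at hx
  let u : Fin 2 ⊕ Unit → F := Pi.single (.inl 0) 1
  let φ : Fin 2 ⊕ Unit → F := Sum.elim ![0, x] fun _ => θ (.inl ())
  have hφ : φ ≠ 0 := fun h0 => by
    have a1 := congrFun h0 (.inl 1)
    have a2 := congrFun h0 (.inr ())
    simp [φ] at a1 a2
    simp [a1, a2] at hx
  have hφu : φ ⬝ᵥ u = 0 := by simp [φ, u]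
  have hU := ty_refl (by simp) (1 : F) (u := u) (by simp [u]) hφ
  rw [hφu, add_zero] at hU
  rw [← ty_submatrix _ (Equiv.sumAssoc (Fin 2) Unit _), ← hU, ← hH,
    ← ty_tri (vecMulVec u (θ ∘ Sum.inr)) (p := h) (.inl ⟨?_, aeval_of_ty hh.ne_zero hH⟩)]
  · congr 1
    ext ((i | i) | i) ((j | j) | j) <;> try simp [u, φ, vecMulVec_apply, s1]
    · fin_cases i <;> fin_cases j <;> simp
    · fin_cases i <;> simp
    · fin_cases i <;> simp
  · refine isUnit_aeval_of_coprime (a := (X - C 1) * (X - C 1)) ?_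
      ((coprime_of_eval h1).mul_left (coprime_of_eval h1))
    simp only [map_mul, map_sub, aeval_X, aeval_C, map_one, one_smul, add_sub_cancel_left,
      vecMulVec_mul_vecMulVec, hφu]
    simp

theorem Rel.link [Finite F] {τ : F[X] → ℕ} {c δ : F} {h : F[X]} (hh : h.Monic) (h1 : h.eval 1 ≠ 0)
    (H : Rel τ c (gdeg (X - C 1) + gdeg h) (gdeg (X - C 1) + gdeg h) δ) :
    ∃ σ, Rel (gdeg (qd 2 1) + τ) c σ σ δ := by
  obtain ⟨κ, _, _, A, D, rfl, rfl, e1, e2, rfl⟩ := H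
  obtain ⟨w, hw, a1⟩ := ty_link hh h1 e1
  obtain ⟨w', -, a2⟩ := ty_link hh h1 e2
  obtain ⟨i, hi⟩ := Function.ne_iff.1 hw
  refine ⟨_, Rel.intro (fromBlocks !![1, 1; 0, 1] 0 0 A)
    (fromBlocks !![1, 0; 0, 1] (vecMulVec (Pi.single (0 : Fin 2) (1 : F)) (Pi.single i 1)) 0 D) ?_ (by simp)
    (a1 _ _ (.inr (by simpa using hi))) ?_ (by simp)⟩
  · rw [ty_diag, ty_two _ _ _ _ one_ne_zero]; norm_num
  · rw [← a2 1 (Pi.single i 1) (.inl one_ne_zero), fromBlocks_multiply]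
    congr 2
    · simp
    · rw [mul_vecMulVec, Matrix.zero_mul, add_zero]
      congr 1
      ext j; fin_cases j <;> simp
    · simp
    · simp

end Cfsg.Agent.Ore
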