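import Cfsg.Agent.Ore.Main

/-! Thompson's commutator theorem over the fields with three and two elements (`cm_three`, `neu_two'`). -/

set_option autoImplicit false

namespace Cfsg.Agent.Ore

open Module Polynomial Matrix Cfsg.Agent.Classical Cfsg.Agent.Elu

section
variable {F : Type*} [Field F] [Finite F]

omit [Finite F] in
theorem pp_root {a : F[X]} (ha : IsPP a) {x y : F} (hx : a.eval x = 0) (hy : a.eval y = 0) : x = y := by
  obtain ⟨p, e, h1, h2, h3, rfl⟩ := ha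
  rw [eval_pow, pow_eq_zero_iff h3.ne'] at hx hy
  have h4 := degree_eq_one_of_irreducible_of_root h1 hx
  rw [eq_lin h2 (natDegree_eq_of_degree_eq_some h4)] at hx hy
  simp only [eval_sub, eval_X, eval_C, sub_eq_zero] at hx hy
  rw [hx, hy]

theorem rel_bad (h2 : (2 : F) ≠ 0) {b : F[X]} (hb : IsPP b) (hd : b.natDegree = 2) (hc : dt b = -1)
    {d : F} (d0 : d ≠ 0) : Rel (gdeg b) (-1) (gdeg ((X - C d) * (X - C d)))
      (gdeg (X - C d) + gdeg (X - C (-d))) (d * d) := by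
  have hne : d ≠ -d := fun h => mul_ne_zero h2 d0 (by linear_combination h)
  have e := eq_qd (mon hb) hd
  rw [hc] at e
  have ht : -b.coeff 1 ≠ 0 := fun h => by
    rw [h] at e
    have := pp_root hb (x := 1) (y := -1) (by rw [e, eval_qd]; ring) (by rw [e, eval_qd]; ring)
    exact h2 (by linear_combination this)
  rw [← gdeg_mul (monic_X_sub_C _) (monic_X_sub_C _)
    (isCoprime_X_sub_C_of_isUnit_sub (sub_ne_zero.2 hne).isUnit), qd_mul, qd_mul, e]
  convert rel_two (t := -b.coeff 1) (c := -1) (s := 0) d0 (by simp) (mul_ne_zero d0 ht).symm using 3 <;> ring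

theorem tr_bad (h2 : (2 : F) ≠ 0) {b a w : F[X]} (hb : IsPP b) (hd : b.natDegree = 2) (hc : dt b = -1)
    (ha : a.Monic) (hc' : dt a = -1) {d : F} (d0 : d ≠ 0) (hw : w.Monic)
    (hn : w.natDegree + 2 = a.natDegree) (w0 : dt w ≠ 0) (w1 : w.eval d ≠ 0) (w2 : w.eval (-d) ≠ 0) :
    Tr (gdeg b + gdeg a) 1 d (-d ^ 4 * dt w) := by
  have hne : d - -d ≠ 0 := fun h => mul_ne_zero h2 d0 (by linear_combination h)
  have m1 := monic_X_sub_C d
  have m2 := monic_X_sub_C (-d)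
  have h := good_cyc ha (by omega) (by rw [hc']; simp) d ((X - C (-d)) * w) ((X - C d) * (X - C d) * w)
    (m2.mul hw) ((m1.mul m1).mul hw) (by rw [m2.natDegree_mul hw, natDegree_X_sub_C]; omega)
    (by rw [(m1.mul m1).natDegree_mul hw, m1.natDegree_mul m1, natDegree_X_sub_C]; omega) d0
    (by rw [dt_mul m2.ne_zero hw.ne_zero, dt_X_sub_C]; exact mul_ne_zero (neg_ne_zero.2 d0) w0)
    (by rw [eval_mul, eval_sub, eval_X, eval_C]; exact mul_ne_zero hne w1)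
    (by rw [dt_mul (m1.mul m1).ne_zero hw.ne_zero, dt_mul m1.ne_zero m1.ne_zero,
      dt_mul m2.ne_zero hw.ne_zero, dt_X_sub_C, dt_X_sub_C, hc']; ring)
  rw [gdeg_mul m2 hw (coprime_of_eval w2), gdeg_mul (m1.mul m1) hw
    ((coprime_of_eval w1).mul_left (coprime_of_eval w1)), dt_mul m2.ne_zero hw.ne_zero, dt_X_sub_C,
    hc'] at h
  refine ⟨gdeg ((X - C d) * (X - C d)) + (gdeg (X - C (-d)) + gdeg w), (isTy_gdeg (m1.mul m1).ne_zero).add
    ((isTy_gdeg m2.ne_zero).add (isTy_gdeg hw.ne_zero)), ?_⟩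
  convert (rel_bad h2 hb hd hc d0).add h using 1
  · simp
  · abel
  · rw [mul_one]; abel
  · ring

theorem tr_bad2 (h2 : (2 : F) ≠ 0) {b a : F[X]} (hb : IsPP b) (hd : b.natDegree = 2) (hc : dt b = -1)
    (ha : a.Monic) (hd' : a.natDegree = 2) (hc' : dt a = -1) {d : F} (d0 : d ≠ 0) :
    Tr (gdeg b + gdeg a) 1 d (-d ^ 4) := by
  simpa [dt_one] using tr_bad h2 hb hd hc ha hc' d0 monic_one (by simp [hd']) (by simp [dt_one])
    (by simp) (by simp)

theorem wd_bad (h2 : (2 : F) ≠ 0) (k : ℕ) : ∀ B : Multiset F[X], B.card = 2 * k →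
    (∀ b ∈ B, IsPP b ∧ b.natDegree = 2 ∧ dt b = -1) → WD (tm B) 1 := by
  induction k with
  | zero => intro B h _; rw [Multiset.card_eq_zero.1 h]; exact .inl ⟨tm_zero, rfl⟩
  | succ k ih =>
    intro B h hB
    obtain ⟨a, ha⟩ := Multiset.card_pos_iff_exists_mem.1 (by omega : 0 < B.card)
    obtain ⟨B, rfl⟩ := Multiset.exists_cons_of_mem ha
    rw [Multiset.card_cons] at h
    obtain ⟨b, hb⟩ := Multiset.card_pos_iff_exists_mem.1 (by omega : 0 < B.card)
    obtain ⟨B, rfl⟩ := Multiset.exists_cons_of_mem hb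
    rw [Multiset.card_cons] at h
    have hb' := hB b (by simp)
    rw [tm_cons, tm_cons, ← add_assoc, ← mul_one (1 : F)]
    refine WD.add (.inr ⟨one_ne_zero, fun d d0 => ⟨_, by simpa using d0,
      tr_bad2 h2 (hB a ha).1 (hB a ha).2.1 (hB a ha).2.2 (mon hb'.1) hb'.2.1 hb'.2.2 d0⟩⟩)
      (ih B (by omega) fun x hx => hB x (by simp [hx]))

theorem univ_bad (h2 : (2 : F) ≠ 0) (hsq : ∀ x : F, x ^ 2 ≠ -1) {b a : F[X]} (hb : IsPP b)
    (hd : b.natDegree = 2) (hc : dt b = -1) (ha : IsPP a) (hc' : dt a = -1) (hab : a ≠ b) :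
    Univ (gdeg b + gdeg a) 1 := by
  rcases pp_cases hb ha with h | ⟨p, e, e', hp, h0, h1, h1', rfl, rfl⟩
  · have := pp_pos ha
    have := (good_mul (mon hb) (mon ha) h (by omega) (by simp [hc]) (by simp [hc'])).univ (by omega)
      (by simp [hc, hc'])
    simpa [hc, hc'] using this
  rw [natDegree_pow] at hd
  have he : e = 1 := by
    by_contra he
    obtain ⟨rfl, -⟩ : e = 2 ∧ p.natDegree = 1 := by
      have : e ≤ 2 := by nlinarith
      interval_cases e <;> omega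
    rw [pow_two, dt_mul hp.ne_zero hp.ne_zero, ← pow_two] at hc
    exact hsq _ hc
  subst he
  have h4 : 4 ≤ (p ^ e').natDegree := by
    have : e' ≠ 1 := fun h => hab (by rw [h])
    rw [natDegree_pow]; nlinarith [show 2 ≤ e' by omega]
  refine ⟨one_ne_zero, fun d d0 δ hδ => ?_⟩
  obtain ⟨w, w1, w2, w3, w4, w5⟩ := exists_h (r := (p ^ e').natDegree - 2) (by omega) (δ / -d ^ 4) d0
    (neg_ne_zero.2 d0)
  have h5 : -d ^ 4 ≠ 0 := by simpa using d0
  have := tr_bad h2 hb (by rw [natDegree_pow, hd]) hc (mon ha) hc' d0 w1 (by omega)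
    (w3 ▸ div_ne_zero hδ h5) w4 w5
  rwa [w3, mul_div_cancel₀ _ h5] at this

theorem cm_explicit {ι : Type} [Fintype ι] [DecidableEq ι] [Nonempty ι] {A D P Q : Matrix ι ι F}
    (h1 : P * Q = 1) (h2 : A * D * P = P * D) (hA : A.det = 1) (hD : D.det = 1) {r : ℕ} (hr : (r : F) ≠ 0)
    (h : D ^ r = 1) : Cm (ty A) 1 :=
  ⟨ty D, irr_of_sqfree (squarefree_X_pow_sub_one hr) (by simp [h]),
    Rel.intro A D rfl hA rfl (ty_congr h1 (mul_eq_one_comm.1 h1) h2) hD⟩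

end

theorem det_three {ι : Type} [Fintype ι] [DecidableEq ι] {D : Matrix ι ι (ZMod 3)} (h : D ^ 5 = 1) :
    D.det = 1 := by
  have := congrArg det h
  rw [det_pow, det_one] at this
  generalize D.det = x at this
  revert x; decide

theorem cm_gg {b : (ZMod 3)[X]} (hb : IsPP b) (hd : b.natDegree = 2) (hc : dt b = -1) :
    Cm (gdeg b + gdeg b) 1 := by
  have e := eq_qd (mon hb) hd
  rw [hc] at e
  have ht : -b.coeff 1 ≠ 0 := fun h => by
    rw [h] at e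
    have := pp_root hb (x := 1) (y := -1) (by rw [e, eval_qd]; ring) (by rw [e, eval_qd]; ring)
    exact absurd this (by decide)
  generalize -b.coeff 1 = t at e ht
  have h1 : gdeg b = ty !![0, 1; 1, t] := by rw [ty_two _ _ _ _ one_ne_zero, e]; simp
  rw [h1, ← ty_diag]
  obtain rfl | rfl : t = 1 ∨ t = 2 := by clear h1 e; revert t; decide
  · have h5 : (fromBlocks !![0, 0; 0, 0] !![1, 1; 2, 0] !![2, 0; 0, 2] !![0, 0; 0, 2] :
        Matrix (Fin 2 ⊕ Fin 2) (Fin 2 ⊕ Fin 2) (ZMod 3)) ^ 5 = 1 := by decide +kernel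
    exact cm_explicit (P := fromBlocks !![1, 0; 0, 0] !![0, 1; 1, 0] !![0, 1; 2, 0] !![2, 0; 0, 0])
      (Q := fromBlocks !![0, 0; 0, 1] !![0, 2; 1, 0] !![0, 1; 1, 0] !![0, 0; 0, 1])
      (by decide +kernel) (by decide +kernel) (by simp) (det_three h5) (by decide) h5
  · have h5 : (fromBlocks !![0, 0; 1, 2] !![2, 0; 0, 2] !![2, 2; 0, 2] !![0, 0; 0, 0] :
        Matrix (Fin 2 ⊕ Fin 2) (Fin 2 ⊕ Fin 2) (ZMod 3)) ^ 5 = 1 := by decide +kernel
    exact cm_explicit (P := fromBlocks !![0, 1; 2, 2] !![0, 0; 0, 0] !![0, 0; 0, 0] !![2, 0; 0, 1])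
      (Q := fromBlocks !![2, 2; 1, 0] !![0, 0; 0, 0] !![0, 0; 0, 0] !![2, 0; 0, 1])
      (by decide +kernel) (by decide +kernel) (by simp) (det_three h5) (by decide) h5

theorem cm_three {M : Multiset (ZMod 3)[X]} (hM : ∀ a ∈ M, IsPP a ∧ dt a ≠ 0) (h1 : dm M = 1)
    (hn : 3 ≤ dsum M) : Cm (tm M) 1 := by
  classical
  have h2 : (2 : ZMod 3) ≠ 0 := by decide
  have hsq : ∀ x : ZMod 3, x ^ 2 ≠ -1 := by decide
  have hpm : ∀ x : ZMod 3, x ≠ 0 → x ≠ 1 → x = -1 := by decide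
  obtain ⟨B, N, rfl, hB, hN⟩ : ∃ B N, M = B + N ∧ (∀ b ∈ B, b.natDegree = 2 ∧ dt b = -1) ∧
      ∀ b ∈ N, ¬ (b.natDegree = 2 ∧ dt b = -1) :=
    ⟨_, _, (Multiset.filter_add_not (fun b => b.natDegree = 2 ∧ dt b = -1) M).symm,
      fun b hb => (Multiset.mem_filter.1 hb).2, fun b hb => (Multiset.mem_filter.1 hb).2⟩
  have hW : ∀ a ∈ N, a.natDegree = 2 → ∃ ν : ZMod 3, ν ≠ 0 ∧ ν ≠ 1 ∧ ν ≠ dt a := fun a ha h =>
    ⟨-1, by decide, by decide, fun e => hN a ha ⟨h, e.symm⟩⟩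
  have hN' : ∀ a ∈ N, IsPP a ∧ dt a ≠ 0 := fun a ha => hM a (by simp [ha])
  have hB' : ∀ b ∈ B, IsPP b ∧ b.natDegree = 2 ∧ dt b = -1 := fun b hb => ⟨(hM b (by simp [hb])).1, hB b hb⟩
  have hw : ∀ a ∈ N, Weak (gdeg a) (dt a) := fun a ha => weak_of (hN' a ha).1 (hN' a ha).2 (hW a ha)
  have hdB : dm B = (-1) ^ B.card := by
    rw [dm, Multiset.map_congr rfl fun b hb => (hB b hb).2]; simp
  rw [dm_add, hdB] at h1
  obtain ⟨k, hk | hk⟩ := B.card.even_or_odd'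
  · rw [hk, pow_mul, neg_one_sq, one_pow, one_mul] at h1
    rcases k with _ | k
    · obtain rfl := Multiset.card_eq_zero.1 hk
      rw [zero_add] at hn ⊢
      exact cm_main hN' hW h1 (by rintro rfl; simp at hn) (.inl hn)
    obtain ⟨a, ha⟩ := Multiset.card_pos_iff_exists_mem.1 (by omega : 0 < B.card)
    obtain ⟨B, rfl⟩ := Multiset.exists_cons_of_mem ha
    rw [Multiset.card_cons] at hk
    obtain ⟨b, hb⟩ := Multiset.card_pos_iff_exists_mem.1 (by omega : 0 < B.card)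
    obtain ⟨B, rfl⟩ := Multiset.exists_cons_of_mem hb
    rw [Multiset.card_cons] at hk
    have hb' := hB' b (by simp)
    have ha' := hB' a ha
    have hr := (wd_bad h2 k B (by omega) fun x hx => hB' x (by simp [hx])).add (wd_tm hw)
    rw [h1] at hr
    rw [tm_add, tm_cons, tm_cons, ← add_assoc, add_assoc]
    by_cases hab : b = a
    · subst hab
      rw [mul_one] at hr
      obtain ⟨δ, d0, hδ⟩ := hr.neu
      by_cases d1 : δ = 1
      · simpa [d1] using (cm_gg hb'.1 hb'.2.1 hb'.2.2).add hδ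
      · simpa [hpm δ d0 d1] using
          (tr_bad2 h2 hb'.1 hb'.2.1 hb'.2.2 (mon hb'.1) hb'.2.1 hb'.2.2 one_ne_zero).cm.add hδ
    · have := (univ_bad h2 hsq ha'.1 ha'.2.1 ha'.2.2 hb'.1 hb'.2.2 hab).add hr
      simp only [mul_one] at this
      exact this.cm
  · rw [hk, pow_succ, pow_mul, neg_one_sq, one_pow, one_mul] at h1
    obtain ⟨b, hb⟩ := Multiset.card_pos_iff_exists_mem.1 (by omega : 0 < B.card)
    obtain ⟨B, rfl⟩ := Multiset.exists_cons_of_mem hb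
    rw [Multiset.card_cons] at hk
    obtain ⟨a, ha, ha1⟩ : ∃ a ∈ N, dt a ≠ 1 := by
      by_contra hc
      push Not at hc
      rw [dm, Multiset.map_congr rfl hc] at h1
      simp at h1
      exact absurd h1 (by decide)
    have ha2 := hpm _ (hN' a ha).2 ha1
    obtain ⟨N, rfl⟩ := Multiset.exists_cons_of_mem ha
    have hb' := hB' b hb
    have := (univ_bad h2 hsq hb'.1 hb'.2.1 hb'.2.2 (hN' a ha).1 ha2
      (fun h => hN a ha (h ▸ hb'.2))).add ((wd_bad h2 k B (by omega) fun x hx => hB' x (by simp [hx])).add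
        (wd_tm (M := N) fun x hx => hw x (by simp [hx])))
    rw [dm_cons, ha2, ← mul_assoc, neg_mul_neg, one_mul, one_mul] at h1
    rw [h1] at this
    simp only [mul_one] at this
    convert this.cm using 1
    rw [tm_add, tm_cons, tm_cons]; abel

theorem neu_explicit {ι : Type} [Fintype ι] [DecidableEq ι] {A D D' P Q : Matrix ι ι (ZMod 2)}
    (h1 : P * Q = 1) (h2 : A * D * P = P * D) (hA : A.det = 1) (hD : D * D' = 1) : Neu (ty A) 1 :=
  ⟨ty D, Rel.intro A D rfl hA rfl (ty_congr h1 (mul_eq_one_comm.1 h1) h2) (by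
    have := congrArg det hD
    rw [det_mul, det_one] at this
    generalize D.det = x at this
    generalize D'.det = y at this
    revert x y; decide)⟩

theorem ty_J : ty !![(0 : ZMod 2), 1; 1, 0] = gdeg (qd 0 1) := by
  rw [ty_two _ _ _ _ one_ne_zero]; congr 2

theorem neu_J2 : Neu (2 • gdeg (qd (0 : ZMod 2) 1)) 1 := by
  rw [two_nsmul, ← ty_J, ← ty_diag]
  exact neu_explicit (D := fromBlocks !![0, 1; 0, 0] !![0, 0; 0, 1] !![0, 0; 1, 0] !![1, 0; 0, 0])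
    (D' := fromBlocks !![0, 0; 1, 0] !![0, 1; 0, 0] !![0, 0; 0, 1] !![1, 0; 0, 0])
    (P := fromBlocks !![0, 1; 0, 0] !![0, 0; 1, 0] !![1, 0; 0, 0] !![0, 0; 0, 1])
    (Q := fromBlocks !![0, 0; 1, 0] !![1, 0; 0, 0] !![0, 1; 0, 0] !![0, 0; 0, 1])
    (by decide +kernel) (by decide +kernel) (by simp) (by decide +kernel)

theorem neu_J3 : Neu (3 • gdeg (qd (0 : ZMod 2) 1)) 1 := by
  let e : (Fin 2 ⊕ Fin 2) ⊕ Fin 2 → Fin 6 := Sum.elim (Sum.elim ![0, 1] ![2, 3]) ![4, 5]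
  rw [succ_nsmul, two_nsmul, ← ty_J, ← ty_diag, ← ty_diag]
  exact neu_explicit
    (D := submatrix !![1, 1, 1, 1, 0, 0; 0, 0, 1, 0, 1, 0; 1, 0, 0, 0, 0, 1; 0, 1, 0, 0, 0, 0;
      1, 0, 0, 0, 0, 0; 0, 0, 0, 1, 0, 0] e e)
    (D' := submatrix !![0, 0, 0, 0, 1, 0; 0, 0, 0, 1, 0, 0; 1, 0, 0, 1, 1, 1; 0, 0, 0, 0, 0, 1;
      1, 1, 0, 1, 1, 1; 0, 0, 1, 0, 1, 0] e e)
    (P := submatrix !![0, 0, 1, 1, 0, 0; 1, 0, 0, 0, 0, 0; 0, 0, 0, 0, 1, 0; 0, 1, 0, 0, 1, 0;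
      1, 1, 0, 0, 1, 1; 1, 0, 0, 1, 1, 0] e e)
    (Q := submatrix !![0, 1, 0, 0, 0, 0; 0, 0, 1, 1, 0, 0; 1, 1, 1, 0, 0, 1; 0, 1, 1, 0, 0, 1;
      0, 0, 1, 0, 0, 0; 0, 1, 0, 1, 1, 0] e e)
    (by decide +kernel) (by decide +kernel) (by simp) (by decide +kernel)

theorem neu_two' {M : Multiset (ZMod 2)[X]} (hM : ∀ a ∈ M, IsPP a ∧ dt a ≠ 0) (hn : 3 ≤ dsum M) :
    Neu (tm M) 1 := by
  classical
  have h1 : ∀ x : ZMod 2, x ≠ 0 → x = 1 := by decide
  have hwk : ∀ (τ : (ZMod 2)[X] → ℕ) {c}, Weak τ c → Neu τ 1 := fun τ c h => by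
    obtain rfl := h1 c h.1
    obtain ⟨δ, d0, hδ⟩ := WD.neu (.inr h)
    rwa [h1 δ d0] at hδ
  have hJ : (qd 0 1 : (ZMod 2)[X]) = (X - C 1) ^ 2 := by
    rw [pow_two, qd_mul]; congr 1
  have hJ' : IsPP (qd 0 1 : (ZMod 2)[X]) := hJ ▸ isPP_X_sub_C_pow 1 two_pos
  have hall : ∀ N : Multiset (ZMod 2)[X], (∀ a ∈ N, IsPP a ∧ dt a ≠ 0 ∧ a ≠ qd 0 1) → Neu (tm N) 1 := by
    intro N
    induction N using Multiset.induction_on with
    | empty => intro _; rw [tm_zero]; exact Neu.zero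
    | cons a N ih =>
      intro h
      obtain ⟨a1, a2, a3⟩ := h a (by simp)
      rw [tm_cons, ← mul_one (1 : ZMod 2)]
      refine Neu.add ?_ (ih fun x hx => h x (by simp [hx]))
      by_cases h2 : a.natDegree = 2
      · have e := eq_qd (mon a1) h2
        rw [h1 _ a2] at e
        rw [e]
        exact neu_two (.inl fun h => a3 (by rw [e, h]; rfl))
      · exact hwk _ (weak_of a1 a2 fun h => absurd h h2)
  obtain ⟨k, N, rfl, hN⟩ : ∃ k N, M = Multiset.replicate k (qd 0 1) + N ∧ ∀ b ∈ N, b ≠ qd 0 1 :=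
    ⟨_, M.filter fun a => ¬ a = qd 0 1, by rw [← Multiset.filter_eq' M (qd 0 1), Multiset.filter_add_not],
      fun b hb => (Multiset.mem_filter.1 hb).2⟩
  have hN' : ∀ a ∈ N, IsPP a ∧ dt a ≠ 0 ∧ a ≠ qd 0 1 := fun a ha =>
    ⟨(hM a (by simp [ha])).1, (hM a (by simp [ha])).2, hN a ha⟩
  rw [tm_add, tm_replicate]
  obtain ⟨j, rfl | rfl⟩ := k.even_or_odd'
  · rw [mul_nsmul, ← mul_one (1 : ZMod 2)]
    exact (neu_J2.nsmul j).add (hall N hN')
  rcases j with _ | j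
  · obtain ⟨a, ha⟩ := Multiset.exists_mem_of_ne_zero (s := N) (by
      rintro rfl; simp [qd_natDegree, dsum_singleton] at hn)
    obtain ⟨N, rfl⟩ := Multiset.exists_cons_of_mem ha
    obtain ⟨a1, a2, a3⟩ := hN' a ha
    rw [tm_cons, ← add_assoc, ← mul_one (1 : ZMod 2)]
    refine Neu.add ?_ (hall N fun x hx => hN' x (by simp [hx]))
    simp only [mul_zero, zero_add, one_smul]
    have a0 := pp_pos a1
    have hd : dt (qd (0 : ZMod 2) 1) * dt a = 1 := by rw [dt_qd, h1 _ a2, mul_one]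
    by_cases e1 : a.natDegree = 1
    · exact hwk _ ((good_21 hJ' a1 (qd_natDegree _ _) e1 (by simp [dt_qd]) a2).univ le_rfl
        (by simp [hd])).weak
    by_cases e2 : a.natDegree = 2
    · exact hwk _ ((good_mul (qd_monic _ _) (mon a1) (pp_coprime hJ' a1 a3.symm
        (by rw [e2, qd_natDegree])) (by omega) (by simp [dt_qd]) a2).univ
        (by rw [e2, qd_natDegree]; omega) (by simp [hd])).weak
    obtain ⟨h, m1, m2, m3, m4, -⟩ := exists_h (r := a.natDegree - 1) (by omega) (1 : ZMod 2)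
      one_ne_zero one_ne_zero
    have := good_cyc (mon a1) (by omega) a2 1 h ((X - C 1) * h) m1 ((monic_X_sub_C 1).mul m1) (by omega)
      (by rw [(monic_X_sub_C 1).natDegree_mul m1, natDegree_X_sub_C]; omega) one_ne_zero
      (by simp [m3]) m4 (by rw [dt_mul (X_sub_C_ne_zero _) m1.ne_zero, dt_X_sub_C, h1 _ a2, mul_one])
    rw [gdeg_mul (monic_X_sub_C 1) m1 (coprime_of_eval m4), h1 _ a2, m3, mul_one] at this
    exact this.link m1 m4
  · rw [show 2 * (j + 1) + 1 = 3 + 2 * j by ring, add_nsmul, mul_nsmul]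
    simpa using (neu_J3.add (neu_J2.nsmul j)).add (hall N hN')

end Cfsg.Agent.Ore
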