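import Cfsg.Agent.Ore.Refl

/-! Chains of blocks: `Tr`, `Weak`, `Univ`, `Neu`, `Cm` and their sums; the basic blocks. -/

set_option autoImplicit false

namespace Cfsg.Agent.Ore

open Module Polynomial Matrix Cfsg.Agent.Classical

variable {F : Type*} [Field F] {ι κ : Type*} [Fintype ι] [DecidableEq ι] [Fintype κ] [DecidableEq κ]

/-- `ρ` is the type of a matrix. -/
def IsTy (ρ : F[X] → ℕ) : Prop := ∃ N : Multiset F[X], (∀ a ∈ N, IsPP a) ∧ ρ = tm N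

/-- `ρ` is the type of a matrix with an irreducible elementary divisor. -/
def Irr (ρ : F[X] → ℕ) : Prop := ∃ N : Multiset F[X], (∀ a ∈ N, IsPP a) ∧ ρ = tm N ∧ ∃ p ∈ N, Irreducible p

theorem isTy_ty [Finite F] (A : Matrix ι ι F) : IsTy (ty A) := ⟨_, fun _ => isPP_of_mem, ty_eq_tm A⟩

theorem isTy_gdeg [Finite F] {a : F[X]} (ha : a ≠ 0) : IsTy (gdeg a) := by
  obtain ⟨A, hA⟩ := exists_ty ha
  exact hA ▸ isTy_ty A

theorem isTy_zero : IsTy (0 : F[X] → ℕ) := ⟨0, by simp, tm_zero.symm⟩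

theorem IsTy.add {ρ σ : F[X] → ℕ} (h : IsTy ρ) (h' : IsTy σ) : IsTy (ρ + σ) := by
  obtain ⟨N, h1, rfl⟩ := h
  obtain ⟨N', h2, rfl⟩ := h'
  exact ⟨N + N', fun a ha => (Multiset.mem_add.1 ha).elim (h1 a) (h2 a), (tm_add _ _).symm⟩

theorem Irr.add {ρ σ : F[X] → ℕ} (h : Irr ρ) (h' : IsTy σ) : Irr (ρ + σ) := by
  obtain ⟨N, h1, rfl, p, hp, hp'⟩ := h
  obtain ⟨N', h2, rfl⟩ := h'
  exact ⟨N + N', fun a ha => (Multiset.mem_add.1 ha).elim (h1 a) (h2 a), (tm_add _ _).symm,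
    p, Multiset.mem_add.2 (.inl hp), hp'⟩

theorem irr_lin (d : F) : Irr (gdeg (X - C d)) :=
  ⟨{X - C d}, by simpa using isPP_of_irreducible (irreducible_X_sub_C d) (monic_X_sub_C d),
    (tm_singleton _).symm, _, Multiset.mem_singleton_self _, irreducible_X_sub_C d⟩

theorem irr_of_sqfree [Finite F] [Nonempty ι] {D : Matrix ι ι F} {s : F[X]} (hs : Squarefree s)
    (h : aeval D s = 0) : Irr (ty D) := by
  have h1 := sum_natDegree_elemDiv_mat D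
  obtain ⟨p, hp⟩ := Multiset.exists_mem_of_ne_zero (s := elemDiv (toLin' D)) fun h0 => by
    rw [h0] at h1
    exact Fintype.card_ne_zero h1.symm
  exact ⟨_, fun _ => isPP_of_mem, ty_eq_tm D, p, hp,
    ((isPP_of_mem hp).irreducible_of_dvd hs (aeval_mat_eq_zero_iff.1 h p hp)).1⟩

theorem Rel.isTy [Finite F] {τ σ ρ : F[X] → ℕ} {c δ : F} (h : Rel τ c σ ρ δ) : IsTy σ := by
  obtain ⟨ι, _, _, A, D, -, -, rfl, -, -⟩ := h
  exact isTy_ty D

/-- `A D ~ D` with `det D = δ`. -/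
def Neu (τ : F[X] → ℕ) (δ : F) : Prop := ∃ σ, Rel τ 1 σ σ δ

/-- `A D ~ D` with `det D = δ` and an irreducible elementary divisor of `D`. -/
def Cm (τ : F[X] → ℕ) (δ : F) : Prop := ∃ σ, Irr σ ∧ Rel τ 1 σ σ δ

/-- `D ~ d ⊕ H`, `A D ~ d c ⊕ H`. -/
def Tr (τ : F[X] → ℕ) (c d δ : F) : Prop :=
  ∃ ρ, IsTy ρ ∧ Rel τ c (gdeg (X - C d) + ρ) (gdeg (X - C (d * c)) + ρ) δ

/-- Some determinant of `D`. -/
def Weak (τ : F[X] → ℕ) (c : F) : Prop := c ≠ 0 ∧ ∀ d ≠ 0, ∃ δ ≠ 0, Tr τ c d δ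

/-- Every determinant of `D`. -/
def Univ (τ : F[X] → ℕ) (c : F) : Prop := c ≠ 0 ∧ ∀ d ≠ 0, ∀ δ ≠ 0, Tr τ c d δ

/-- Empty or weak. -/
def WD (τ : F[X] → ℕ) (c : F) : Prop := τ = 0 ∧ c = 1 ∨ Weak τ c

variable {τ τ' : F[X] → ℕ} {c c' d δ δ' : F}

theorem Cm.neu (h : Cm τ δ) : Neu τ δ := let ⟨σ, _, h⟩ := h; ⟨σ, h⟩

theorem Neu.zero : Neu (0 : F[X] → ℕ) 1 := ⟨0, Rel.zero⟩

theorem Neu.add (h : Neu τ δ) (h' : Neu τ' δ') : Neu (τ + τ') (δ * δ') := by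
  obtain ⟨σ, h⟩ := h
  obtain ⟨σ', h'⟩ := h'
  exact ⟨_, by simpa using h.add h'⟩

theorem Neu.nsmul (h : Neu τ 1) (k : ℕ) : Neu (k • τ) 1 := by
  induction k with
  | zero => simpa using Neu.zero
  | succ k ih => rw [succ_nsmul, ← mul_one (1 : F)]; exact ih.add h

theorem Cm.add [Finite F] (h : Cm τ δ) (h' : Neu τ' δ') : Cm (τ + τ') (δ * δ') := by
  obtain ⟨σ, h0, h⟩ := h
  obtain ⟨σ', h'⟩ := h'
  exact ⟨_, h0.add h'.isTy, by simpa using h.add h'⟩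

theorem Cm.nsmul [Finite F] (h : Cm τ 1) {k : ℕ} (hk : k ≠ 0) : Cm (k • τ) 1 := by
  obtain ⟨k, rfl⟩ := Nat.exists_eq_succ_of_ne_zero hk
  rw [succ_nsmul', ← mul_one (1 : F)]
  exact h.add (h.neu.nsmul k)

theorem Tr.cm (h : Tr τ 1 d δ) : Cm τ δ := by
  obtain ⟨ρ, h0, h⟩ := h
  rw [mul_one] at h
  exact ⟨_, (irr_lin d).add h0, h⟩

theorem Tr.add [Finite F] (h : Tr τ c d δ) (h' : Tr τ' c' (d * c) δ') :
    Tr (τ + τ') (c * c') d (δ * δ') := by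
  obtain ⟨ρ, h0, h⟩ := h
  obtain ⟨ρ', h0', h'⟩ := h'
  refine ⟨ρ + (gdeg (X - C (d * c)) + ρ'), h0.add ((isTy_gdeg (X_sub_C_ne_zero _)).add h0'), ?_⟩
  convert h.add h' using 1
  · abel
  · rw [mul_assoc]; abel

theorem Weak.add [Finite F] (h : Weak τ c) (h' : Weak τ' c') : Weak (τ + τ') (c * c') :=
  ⟨mul_ne_zero h.1 h'.1, fun d hd => by
    obtain ⟨δ, h1, h2⟩ := h.2 d hd
    obtain ⟨δ', h1', h2'⟩ := h'.2 _ (mul_ne_zero hd h.1)
    exact ⟨_, mul_ne_zero h1 h1', h2.add h2'⟩⟩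

theorem Univ.weak (h : Univ τ c) : Weak τ c := ⟨h.1, fun d hd => ⟨1, one_ne_zero, h.2 d hd 1 one_ne_zero⟩⟩

theorem Univ.add [Finite F] (h : Univ τ c) (h' : WD τ' c') : Univ (τ + τ') (c * c') := by
  rcases h' with ⟨rfl, rfl⟩ | h'
  · simpa using h
  refine ⟨mul_ne_zero h.1 h'.1, fun d hd δ hδ => ?_⟩
  obtain ⟨δ', h1', h2'⟩ := h'.2 _ (mul_ne_zero hd h.1)
  have := (h.2 d hd (δ / δ') (div_ne_zero hδ h1')).add h2'
  rwa [div_mul_cancel₀ _ h1'] at this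

theorem WD.add [Finite F] (h : WD τ c) (h' : WD τ' c') : WD (τ + τ') (c * c') := by
  rcases h with ⟨rfl, rfl⟩ | h
  · simpa using h'
  rcases h' with ⟨rfl, rfl⟩ | h'
  · simpa using .inr h
  exact .inr (h.add h')

theorem WD.neu (h : WD τ 1) : ∃ δ ≠ 0, Neu τ δ := by
  rcases h with ⟨rfl, -⟩ | h
  · exact ⟨1, one_ne_zero, Neu.zero⟩
  · obtain ⟨δ, h1, h2⟩ := h.2 1 one_ne_zero
    exact ⟨δ, h1, h2.cm.neu⟩

theorem Univ.cm (h : Univ τ 1) : Cm τ 1 := (h.2 1 one_ne_zero 1 one_ne_zero).cm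

/-- The determinant belonging to a multiset of blocks. -/
noncomputable def dm (M : Multiset F[X]) : F := (M.map dt).prod

theorem dm_zero : dm (0 : Multiset F[X]) = 1 := by simp [dm]

theorem dm_cons (a : F[X]) (M : Multiset F[X]) : dm (a ::ₘ M) = dt a * dm M := by simp [dm]

theorem dm_add (M N : Multiset F[X]) : dm (M + N) = dm M * dm N := by simp [dm]

theorem dm_replicate (k : ℕ) (a : F[X]) : dm (Multiset.replicate k a) = dt a ^ k := by simp [dm]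

theorem wd_tm [Finite F] {M : Multiset F[X]} (h : ∀ a ∈ M, Weak (gdeg a) (dt a)) : WD (tm M) (dm M) := by
  induction M using Multiset.induction_on with
  | empty => exact .inl ⟨tm_zero, dm_zero⟩
  | cons a M ih =>
    rw [tm_cons, dm_cons]
    exact WD.add (.inr (h a (Multiset.mem_cons_self _ _))) (ih fun b hb => h b (Multiset.mem_cons_of_mem hb))

theorem weak_lin [Finite F] {a : F} (ha : a ≠ 0) : Weak (gdeg (X - C a)) a :=
  ⟨ha, fun d hd => ⟨d, hd, 0, isTy_zero, Rel.intro (s1 a) (s1 d) (ty_s1 a) (by simp [s1])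
    (by rw [ty_s1, add_zero]) (by rw [add_zero, ty_one]; simp [s1, Matrix.mul_apply, mul_comm])
    (by simp [s1])⟩⟩

theorem exists_avoid {t t' : F} (h : t = t' ∨ ∃ x : F, x ≠ 0 ∧ x ≠ 1) : ∃ s, s ≠ t ∧ s ≠ t' := by
  by_cases e : t = t'
  · exact ⟨t + 1, by simp, by simp [e]⟩
  · obtain ⟨x, h0, h1⟩ := h.resolve_left e
    refine ⟨t + x * (t' - t), by simpa [h0, sub_eq_zero] using Ne.symm e, fun h => ?_⟩
    have : (x - 1) * (t' - t) = 0 := by linear_combination h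
    rcases mul_eq_zero.1 this with h | h
    · exact h1 (sub_eq_zero.1 h)
    · exact e (sub_eq_zero.1 h).symm

theorem exists_h {r : ℕ} (hr : 2 ≤ r) (ρ : F) {d d' : F} (hd : d ≠ 0) (hd' : d' ≠ 0) :
    ∃ h : F[X], h.Monic ∧ h.natDegree = r ∧ dt h = ρ ∧ h.eval d ≠ 0 ∧ h.eval d' ≠ 0 := by
  obtain ⟨s, h1, h2⟩ := exists_avoid (t := -(d ^ r + (-1) ^ r * ρ) / d)
    (t' := -(d' ^ r + (-1) ^ r * ρ) / d') (by
      by_cases e : d = d'
      · exact .inl (by rw [e])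
      · exact .inr ⟨d' / d, div_ne_zero hd' hd, fun h => e ((div_eq_one_iff_eq hd).1 h).symm⟩)
  have hdeg : (C s * X + C ((-1) ^ r * ρ) : F[X]).degree < r :=
    degree_linear_le.trans_lt (by exact_mod_cast hr)
  have hn : (X ^ r + (C s * X + C ((-1) ^ r * ρ)) : F[X]).natDegree = r := by
    rw [natDegree_add_eq_left_of_degree_lt (by rwa [degree_X_pow]), natDegree_X_pow]
  refine ⟨X ^ r + (C s * X + C ((-1) ^ r * ρ)), monic_X_pow_add hdeg, hn, ?_, fun h => h1 ?_,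
    fun h => h2 ?_⟩
  · rw [dt, hn, coeff_add, coeff_add, coeff_X_pow, if_neg (by omega), mul_coeff_zero, coeff_X_zero,
      coeff_C_zero, coeff_C_zero, mul_zero, zero_add, zero_add, ← mul_assoc, ← mul_pow]
    simp
  · simp only [eval_add, eval_pow, eval_X, eval_mul, eval_C] at h
    field_simp; linear_combination h
  · simp only [eval_add, eval_pow, eval_X, eval_mul, eval_C] at h
    field_simp; linear_combination h

theorem Good.tr [Finite F] {n : ℕ} (H : Good τ c n) {h : F[X]} (hm : h.Monic) (hn : h.natDegree + 1 = n)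
    (hd : d ≠ 0) (h0 : dt h ≠ 0) (h1 : h.eval d ≠ 0) (h2 : h.eval (d * c) ≠ 0) : Tr τ c d (d * dt h) := by
  refine ⟨gdeg h, isTy_gdeg hm.ne_zero, ?_⟩
  rw [← gdeg_mul (monic_X_sub_C (d * c)) hm (coprime_of_eval h2)]
  refine H d h _ hm ((monic_X_sub_C _).mul hm) hn ?_ hd h0 h1 ?_
  · rw [(monic_X_sub_C _).natDegree_mul hm, natDegree_X_sub_C, ← hn, add_comm]
  · rw [dt_mul (X_sub_C_ne_zero _) hm.ne_zero, dt_X_sub_C]; ring

theorem Good.univ [Finite F] {n : ℕ} (H : Good τ c n) (hn : 3 ≤ n) (hc : c ≠ 0) : Univ τ c :=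
  ⟨hc, fun d hd δ hδ => by
    obtain ⟨h, h1, h2, h3, h4, h5⟩ := exists_h (r := n - 1) (by omega) (δ / d) hd (mul_ne_zero hd hc)
    have := H.tr h1 (by omega) hd (h3 ▸ div_ne_zero hδ hd) h4 h5
    rwa [h3, mul_div_cancel₀ _ hd] at this⟩

theorem univ_big [Finite F] {a : F[X]} (ha : a.Monic) (h3 : 3 ≤ a.natDegree) (h0 : dt a ≠ 0) :
    Univ (gdeg a) (dt a) := (good_cyc ha (by omega) h0).univ h3 h0

theorem tr_two [Finite F] {a : F[X]} (ha : a.Monic) (h2 : a.natDegree = 2) (h0 : dt a ≠ 0) (hd : d ≠ 0)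
    {ν : F} (hν : ν ≠ 0) (h1 : ν ≠ 1) (hc : ν ≠ dt a) : Tr (gdeg a) (dt a) d (d * (d * ν)) := by
  have := (good_cyc ha h2.ge h0).tr (monic_X_sub_C (d * ν)) (by rw [natDegree_X_sub_C, h2]) hd
    (by rw [dt_X_sub_C]; exact mul_ne_zero hd hν)
    (by simpa [sub_eq_zero, hd] using h1)
    (by simpa [sub_eq_zero, hd] using hc.symm)
  rwa [dt_X_sub_C] at this

theorem neu_two [Finite F] {t : F} (h : t ≠ 2 ∨ (2 : F) ≠ 0) : Neu (gdeg (qd t 1)) 1 := by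
  by_cases ht : t = 2
  · subst ht
    have h2 : (2 : F) ≠ 0 := by simpa using h
    refine ⟨gdeg (qd 2 1), Rel.intro !![1, 1; 0, 1] !![1, 1; 0, 1] ?_ (by simp) ?_ ?_ (by simp)⟩
    · rw [ty_two _ _ _ _ one_ne_zero]; norm_num
    · rw [ty_two _ _ _ _ one_ne_zero]; norm_num
    · rw [mul_fin_two, ty_two _ _ _ _ (by norm_num; exact h2)]; norm_num
  · have := rel_two (t := t) (c := 1) (d := 1) (s := 1 + 1) one_ne_zero one_ne_zero
      (by rw [one_mul, one_add_one_eq_two]; exact Ne.symm ht)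
    simp only [mul_one] at this
    exact ⟨_, this⟩

theorem cm_scalar [Finite F] {a : F} {o : ℕ} (ho : 0 < o) (hoF : (o : F) ≠ 0) (ha : a ^ o = 1) :
    Cm (o • gdeg (X - C a)) 1 := by
  obtain ⟨m, rfl⟩ := Nat.exists_eq_succ_of_ne_zero ho.ne'
  have ha0 : a ≠ 0 := fun h => by simp [h] at ha
  have hf : (X ^ (m + 1) - C ((-1) ^ m) : F[X]).Monic := monic_X_pow_sub_C _ (by omega)
  have hd : (X ^ (m + 1) - C ((-1) ^ m) : F[X]).natDegree = Fintype.card (Fin (m + 1)) := by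
    rw [natDegree_X_pow_sub_C, Fintype.card_fin]
  obtain ⟨k, hk⟩ := (cy_sh (F := F) m).place hf hd
  have hD := (cy_sh (F := F) m).feedback k
  set D := sh F (m + 1) + vecMulVec (Pi.single (Fin.last m) 1) k
  refine ⟨ty D, irr_of_sqfree (Elu.squarefree_X_pow_sub_C hoF (pow_ne_zero _ (by simp))) hk,
    Rel.intro (a • 1) D ?_ (by simp [ha]) rfl ?_ ?_⟩
  · rw [ty_eq_tm, map_smul, toLin'_one, ← Module.End.one_eq_id, Elu.elemDiv_smul_one, tm_replicate]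
    simp
  · rw [smul_mul_assoc, one_mul, hD.ty hf hd hk, (hD.smul ha0).ty hf hd]
    simp only [map_sub, map_pow, aeval_X, aeval_C] at hk ⊢
    rw [_root_.smul_pow, ha, one_smul, hk]
  · rw [← dt_charpoly, hD.charpoly hf hd hk, dt, hd]
    rw [coeff_sub, coeff_C_zero, coeff_X_pow, if_neg (by omega)]
    simp [pow_succ, ← mul_pow]

end Cfsg.Agent.Ore
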