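import Cfsg.Agent.Ore.Cyc

/-! Calculus of similarity types: `ty_congr`, `sim_of_ty`, `ty_diag`, `ty_tri` (Sylvester), `tm`,
`ty_one`, `ty_two`, `ty_refl` (scalar plus rank one). -/

set_option autoImplicit false

namespace Cfsg.Agent.Ore

open Module Polynomial Matrix Cfsg.Agent.Classical

variable {F : Type*} [Field F] {ι κ μ : Type*} [Fintype ι] [DecidableEq ι] [Fintype κ] [DecidableEq κ]
  [Fintype μ] [DecidableEq μ]

theorem ty_congr {A : Matrix ι ι F} {B : Matrix κ κ F} {P : Matrix ι κ F} {Q : Matrix κ ι F}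
    (h1 : P * Q = 1) (h2 : Q * P = 1) (h : A * P = P * B) : ty A = ty B := by
  funext p
  symm
  refine kd_congr (toLin'OfInv h1 h2).symm (fun v => ?_) p
  change P *ᵥ (B *ᵥ v) = A *ᵥ (P *ᵥ v)
  rw [mulVec_mulVec, mulVec_mulVec, h]

theorem ty_zero (A : Matrix ι ι F) : ty A 0 = Fintype.card ι := by
  rw [ty, kd_zero]; simp

theorem sim_of_ty [Finite F] {A : Matrix ι ι F} {B : Matrix κ κ F} (h : ty A = ty B) :
    ∃ (P : Matrix ι κ F) (Q : Matrix κ ι F), P * Q = 1 ∧ Q * P = 1 ∧ A * P = P * B := by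
  obtain ⟨e, he⟩ := exists_equiv_of_kd (f := toLin' B) (g := toLin' A) (by
    have := congrFun h 0
    rw [ty_zero, ty_zero] at this
    simp [this]) fun p _ _ e => (congrFun h _).symm
  refine ⟨LinearMap.toMatrix' e.toLinearMap, LinearMap.toMatrix' e.symm.toLinearMap, ?_, ?_, ?_⟩
  · rw [← LinearMap.toMatrix'_comp]; simp
  · rw [← LinearMap.toMatrix'_comp]; simp
  · apply toLin'.injective
    rw [toLin'_mul, toLin'_mul, toLin'_toMatrix']
    exact LinearMap.ext fun v => (he v).symm

theorem ty_submatrix (A : Matrix ι ι F) (e : κ ≃ ι) : ty (A.submatrix e e) = ty A := by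
  refine ty_congr (P := (1 : Matrix ι ι F).submatrix e id) (Q := (1 : Matrix ι ι F).submatrix id e)
    ?_ ?_ ?_
  · have := submatrix_mul_equiv (1 : Matrix ι ι F) (1 : Matrix ι ι F) e (Equiv.refl ι) e
    simp only [Equiv.coe_refl] at this
    rw [this]; simp
  · rw [submatrix_mul_equiv]; simp
  · rw [submatrix_mul_equiv]
    have := submatrix_mul_equiv (1 : Matrix ι ι F) A e (Equiv.refl ι) id
    simp only [Equiv.coe_refl, submatrix_id_id] at this
    rw [this]; simp

theorem ty_diag (A : Matrix ι ι F) (B : Matrix κ κ F) : ty (fromBlocks A 0 0 B) = ty A + ty B := by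
  funext p
  rw [Pi.add_apply, ty, ty, ty, ← kd_prodMap]
  refine kd_congr (LinearEquiv.sumArrowLequivProdArrow ι κ F F) (fun v => ?_) p
  ext i <;> simp [fromBlocks_mulVec] <;> rfl

theorem aeval_comm {U : Matrix ι ι F} {Z : Matrix κ κ F} {W : Matrix ι κ F} (h : U * W = W * Z)
    (p : F[X]) : aeval U p * W = W * aeval Z p := by
  induction p using Polynomial.induction_on' with
  | add p q hp hq => rw [map_add, map_add, Matrix.add_mul, Matrix.mul_add, hp, hq]
  | monomial n a =>
    have : U ^ n * W = W * Z ^ n := by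
      induction n with
      | zero => simp
      | succ n ih => rw [pow_succ, Matrix.mul_assoc, h, ← Matrix.mul_assoc, ih, pow_succ, Matrix.mul_assoc]
    rw [aeval_monomial, aeval_monomial, Algebra.algebraMap_eq_smul_one, Algebra.algebraMap_eq_smul_one,
      smul_mul_assoc, smul_mul_assoc, one_mul, one_mul, Matrix.smul_mul, Matrix.mul_smul, this]

/-- Sylvester: a block triangular matrix with coprime diagonal blocks splits. -/
theorem ty_tri {U : Matrix ι ι F} {Z : Matrix κ κ F} (Y : Matrix ι κ F) {p : F[X]}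
    (h : IsUnit (aeval U p) ∧ aeval Z p = 0 ∨ aeval U p = 0 ∧ IsUnit (aeval Z p)) :
    ty (fromBlocks U Y 0 Z) = ty U + ty Z := by
  let L : Matrix ι κ F →ₗ[F] Matrix ι κ F :=
    { toFun := fun W => U * W - W * Z
      map_add' := fun a b => by rw [Matrix.mul_add, Matrix.add_mul]; abel
      map_smul' := fun c a => by simp [smul_sub] }
  have hinj : Function.Injective L := by
    rw [← LinearMap.ker_eq_bot, LinearMap.ker_eq_bot']
    intro W hW
    have h1 := aeval_comm (sub_eq_zero.1 hW) p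
    rcases h with ⟨⟨u, hu⟩, h2⟩ | ⟨h2, ⟨u, hu⟩⟩
    · rw [h2, Matrix.mul_zero, ← hu] at h1
      rw [← Matrix.one_mul W, ← u.inv_mul, Matrix.mul_assoc, h1, Matrix.mul_zero]
    · rw [h2, Matrix.zero_mul, ← hu] at h1
      rw [← Matrix.mul_one W, ← u.mul_inv, ← Matrix.mul_assoc, ← h1, Matrix.zero_mul]
  obtain ⟨W, hW⟩ := LinearMap.injective_iff_surjective.1 hinj Y
  rw [← ty_diag]
  symm
  refine ty_congr (P := fromBlocks 1 W 0 1) (Q := fromBlocks 1 (-W) 0 1) ?_ ?_ ?_
  · simp [fromBlocks_multiply]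
  · simp [fromBlocks_multiply]
  · have : U * W = Y + W * Z := by rw [← hW]; simp [L]
    simp [fromBlocks_multiply, this]

theorem ty_smul_congr {A : Matrix ι ι F} {B : Matrix κ κ F} (h : ty A = ty B) (a : F) :
    ty (a • A) = ty (a • B) := by
  funext p
  have h1 : aeval (toLin' (a • A)) p = aeval (toLin' A) (p.comp (C a * X)) := by
    rw [aeval_comp]; simp [Algebra.algebraMap_eq_smul_one]
  have h2 : aeval (toLin' (a • B)) p = aeval (toLin' B) (p.comp (C a * X)) := by
    rw [aeval_comp]; simp [Algebra.algebraMap_eq_smul_one]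
  have := congrFun h (p.comp (C a * X))
  simp only [ty, kd] at this ⊢
  rw [h1, h2, this]

theorem ty_transpose (A : Matrix ι ι F) : ty Aᵀ = ty A := by
  funext p
  have h1 := kd_toLin'_add_rank A p
  have h2 := kd_toLin'_add_rank Aᵀ p
  rw [aeval_transpose, rank_transpose] at h2
  simp only [ty]; omega

/-- The type of a direct sum of cyclic matrices. -/
noncomputable def tm (M : Multiset F[X]) : F[X] → ℕ := fun b => (M.map (gdeg · b)).sum

theorem tm_zero : tm (0 : Multiset F[X]) = 0 := by funext b; simp [tm]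

theorem tm_cons (a : F[X]) (M : Multiset F[X]) : tm (a ::ₘ M) = gdeg a + tm M := by
  funext b; simp [tm]

theorem tm_add (M N : Multiset F[X]) : tm (M + N) = tm M + tm N := by funext b; simp [tm]

theorem tm_singleton (a : F[X]) : tm {a} = gdeg a := by funext b; simp [tm]

theorem tm_replicate (k : ℕ) (a : F[X]) : tm (Multiset.replicate k a) = k • gdeg a := by
  funext b; simp [tm]

theorem ty_eq_tm [Finite F] (A : Matrix ι ι F) : ty A = tm (elemDiv (toLin' A)) := by
  funext b; exact kd_eq _ b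

theorem elemDiv_of_ty [Finite F] {A : Matrix ι ι F} {N : Multiset F[X]} (hN : ∀ a ∈ N, IsPP a)
    (h : ty A = tm N) : elemDiv (toLin' A) = N :=
  elemDiv_eq_of hN fun _ _ _ _ => congrFun h _

theorem exists_ty [Finite F] {a : F[X]} (ha : a ≠ 0) :
    ∃ A : Matrix (Fin a.natDegree) (Fin a.natDegree) F, ty A = gdeg a := by
  obtain ⟨A, hA⟩ := exists_mat_kd (ι := Fin a.natDegree) (fun _ : Unit => a) (fun _ => ha) (by simp)
  exact ⟨A, funext fun b => by simpa [ty] using hA b⟩

theorem aeval_of_ty {A : Matrix ι ι F} {a : F[X]} (ha : a ≠ 0) (h : ty A = gdeg a) : aeval A a = 0 := by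
  have h1 := congrFun h a
  have h2 := congrFun h 0
  rw [gdeg_of_dvd dvd_rfl] at h1
  rw [gdeg_of_dvd (dvd_zero a), ty_zero] at h2
  rw [← aeval_toLin'_eq_zero, ← kd_eq_finrank_iff]
  simpa [h2, ty] using h1

theorem isUnit_aeval_of_coprime {A : Matrix ι ι F} {a b : F[X]} (ha : aeval A a = 0)
    (h : IsCoprime a b) : IsUnit (aeval A b) := by
  obtain ⟨u, v, huv⟩ := h
  have := congrArg (aeval A) huv
  rw [map_add, map_mul, ha, mul_zero, zero_add, map_mul, map_one] at this
  exact IsUnit.of_mul_eq_one_right _ this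

theorem gdeg_mul {a b : F[X]} (ha : a.Monic) (hb : b.Monic) (h : IsCoprime a b) :
    gdeg (a * b) = gdeg a + gdeg b := by
  funext c
  obtain ⟨g, hg⟩ := (IsPrincipalIdealRing.principal (Ideal.span {a, c})).principal
  obtain ⟨g', hg'⟩ := (IsPrincipalIdealRing.principal (Ideal.span {b, c})).principal
  change _ = Ideal.span {g} at hg
  change _ = Ideal.span {g'} at hg'
  have h0 : g ≠ 0 := by
    rintro rfl
    have : a ∈ Ideal.span {a, c} := Ideal.subset_span (by simp)
    rw [hg] at this
    exact ha.ne_zero (by simpa using this)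
  have h0' : g' ≠ 0 := by
    rintro rfl
    have : b ∈ Ideal.span {b, c} := Ideal.subset_span (by simp)
    rw [hg'] at this
    exact hb.ne_zero (by simpa using this)
  have key : Ideal.span {a * b, c} = Ideal.span {g * g'} := by
    rw [← Ideal.span_singleton_mul_span_singleton, ← hg, ← hg']
    have ma : a ∈ Ideal.span {a, c} := Ideal.subset_span (by simp)
    have mb : b ∈ Ideal.span {b, c} := Ideal.subset_span (by simp)
    have mc : c ∈ Ideal.span {a, c} := Ideal.subset_span (by simp)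
    have mc' : c ∈ Ideal.span {b, c} := Ideal.subset_span (by simp)
    apply le_antisymm
    · rw [Ideal.span_le]
      rintro x (rfl | rfl)
      · exact Ideal.mul_mem_mul ma mb
      · obtain ⟨u, v, huv⟩ := h
        have := Ideal.add_mem _ (Ideal.mul_mem_left _ u (Ideal.mul_mem_mul ma mc'))
          (Ideal.mul_mem_left _ v (Ideal.mul_mem_mul mc mb))
        rwa [show u * (a * x) + v * (x * b) = x by linear_combination x * huv] at this
    · rw [Ideal.mul_le]
      intro r hr s hs
      obtain ⟨r1, r2, rfl⟩ := Ideal.mem_span_pair.1 hr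
      obtain ⟨s1, s2, rfl⟩ := Ideal.mem_span_pair.1 hs
      exact Ideal.mem_span_pair.2 ⟨r1 * s1, r1 * a * s2 + r2 * s1 * b + r2 * s2 * c, by ring⟩
  rw [Pi.add_apply, gdeg_of_span_eq key, gdeg_of_span_eq hg, gdeg_of_span_eq hg',
    natDegree_mul h0 h0']

theorem ty_one [Finite F] (A : Matrix Unit Unit F) : ty A = gdeg (X - C (A () ())) := by
  refine Cy.ty (b := fun _ => 1) (fun U hb _ => eq_top_iff.2 fun v _ => ?_) (monic_X_sub_C _)
    (by simp) ?_
  · convert U.smul_mem (v ()) hb
    ext; simp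
  · ext; simp [Matrix.algebraMap_matrix_apply]

/-- The monic quadratic with given trace and determinant. -/
noncomputable def qd (t c : F) : F[X] := X ^ 2 - C t * X + C c

theorem qd_monic (t c : F) : (qd t c).Monic := by unfold qd; monicity!

theorem qd_natDegree (t c : F) : (qd t c).natDegree = 2 := by unfold qd; compute_degree!

theorem dt_qd (t c : F) : dt (qd t c) = c := by rw [dt, qd_natDegree]; simp [qd]

theorem qd_mul (a b : F) : (X - C a) * (X - C b) = qd (a + b) (a * b) := by
  simp only [qd, map_add, map_mul]; ring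

theorem eval_qd (t c x : F) : (qd t c).eval x = x ^ 2 - t * x + c := by simp [qd]

theorem eq_qd {a : F[X]} (ha : a.Monic) (h : a.natDegree = 2) : a = qd (-a.coeff 1) (dt a) := by
  have h2 : a.coeff 2 = 1 := by rw [← h]; exact ha
  conv_lhs => rw [a.as_sum_range_C_mul_X_pow, h]
  simp [Finset.sum_range_succ, h2, qd, dt, h]
  ring

theorem eq_lin {a : F[X]} (ha : a.Monic) (h : a.natDegree = 1) : a = X - C (dt a) := by
  have h2 : a.coeff 1 = 1 := by rw [← h]; exact ha
  conv_lhs => rw [a.as_sum_range_C_mul_X_pow, h]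
  simp [Finset.sum_range_succ, h2, dt, h]
  ring

theorem ty_two [Finite F] (a b c d : F) (hb : b ≠ 0) :
    ty !![a, b; c, d] = gdeg (qd (a + d) (a * d - b * c)) := by
  refine Cy.ty (b := ![0, 1]) (fun U h0 h => eq_top_iff.2 fun v _ => ?_) (qd_monic _ _)
    (by simp [qd_natDegree]) ?_
  · have h1 := h _ h0
    convert U.add_mem (U.smul_mem (v 0 / b) h1) (U.smul_mem (v 1 - v 0 / b * d) h0)
    ext i; fin_cases i <;> simp [mulVec, dotProduct, Fin.sum_univ_two]
    field_simp
  · ext i j
    fin_cases i <;> fin_cases j <;>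
      simp [qd, pow_two, Matrix.algebraMap_matrix_apply, Matrix.mul_apply, Fin.sum_univ_two] <;> ring

theorem rank_vecMulVec_eq {u φ : ι → F} (hu : u ≠ 0) (hφ : φ ≠ 0) : (vecMulVec u φ).rank = 1 := by
  refine le_antisymm (rank_vecMulVec_le u φ) ?_
  by_contra h0
  have h0 : (vecMulVec u φ).rank = 0 := by omega
  rw [Matrix.rank, Submodule.finrank_eq_zero, LinearMap.range_eq_bot] at h0
  obtain ⟨i, hi⟩ := Function.ne_iff.1 hu
  obtain ⟨j, hj⟩ := Function.ne_iff.1 hφ
  have := congrFun (LinearMap.congr_fun h0 (Pi.single j 1)) i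
  simp [vecMulVec_apply] at this
  tauto

theorem ty_refl [Finite F] (h3 : Fintype.card ι = 3) (a : F) {u φ : ι → F} (hu : u ≠ 0) (hφ : φ ≠ 0) :
    ty (a • (1 : Matrix ι ι F) + vecMulVec u φ) =
      gdeg (X - C a) + gdeg ((X - C a) * (X - C (a + φ ⬝ᵥ u))) := by
  set M := a • (1 : Matrix ι ι F) + vecMulVec u φ with hM
  have h1 : kd (toLin' M) (X - C a) = 2 := by
    have := kd_X_sub_C_add_rank M a
    rw [hM, add_sub_cancel_left, rank_vecMulVec_eq hu hφ] at this
    rw [hM]; omega
  have h2 : aeval (toLin' M) ((X - C a) * (X - C (a + φ ⬝ᵥ u))) = 0 := by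
    rw [aeval_toLin'_eq_zero]
    simp only [map_mul, map_sub, aeval_X, aeval_C, Algebra.algebraMap_eq_smul_one, hM]
    rw [add_sub_cancel_left, add_smul, add_sub_add_left_eq_sub, mul_sub, vecMulVec_mul_vecMulVec]
    simp [vecMulVec_smul]
  rw [ty_eq_tm]
  by_cases h0 : φ ⬝ᵥ u = 0
  · rw [h0, add_zero, ← pow_two] at h2 ⊢
    obtain ⟨α, β, e1, e2, e3⟩ := elemDiv_of_sq_zero h2
    rw [finrank_fintype_fun_eq_card, h3] at e1
    obtain rfl : α = 1 := by omega
    obtain rfl : β = 1 := by omega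
    rw [e3, tm_add, tm_replicate, tm_replicate, one_smul, one_smul, add_comm]
  · have hne : a ≠ a + φ ⬝ᵥ u := by simpa using h0
    obtain ⟨e1, e3⟩ := elemDiv_of_two_factors hne h2
    rw [finrank_fintype_fun_eq_card, h3, h1] at e1
    rw [e3, h1, show kd (toLin' M) (X - C (a + φ ⬝ᵥ u)) = 1 by omega, tm_add, tm_replicate,
      tm_replicate, gdeg_mul (monic_X_sub_C _) (monic_X_sub_C _) (isCoprime_X_sub_C_of_isUnit_sub
        (sub_ne_zero.2 hne).isUnit), two_smul, one_smul, add_assoc]

end Cfsg.Agent.Ore
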